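/-
Groups satisfying the Steinberg relations of type A over a finite field act faithfully as matrices.
-/
import Cfsg.Agent.Lib.SL2Steinberg

set_option autoImplicit false

namespace CfsgLib.StSL

open Matrix
open scoped commutatorElement
open CfsgLib.SL2St

/-- Root elements of type `A_{n-1}` in a group, with a matrix representation. -/
structure Sys (n : ℕ) (N K G : Type*) [Field K] [Group G] [Fintype N] [DecidableEq N] where
  x : Fin n → Fin n → K → G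
  ι : Fin n → N
  φ : G →* Matrix N N K
  inj : Function.Injective ι
  add : ∀ {i j}, i ≠ j → ∀ a b, x i j (a + b) = x i j a * x i j b
  comm : ∀ {i j k l}, i ≠ j → k ≠ l → j ≠ k → i ≠ l → ∀ t u, Commute (x i j t) (x k l u)
  mul : ∀ {i j k}, i ≠ j → j ≠ k → i ≠ k → ∀ t u, ⁅x i j t, x j k u⁆ = x i k (t * u)
  rels : ∀ {i j}, i ≠ j → Rels (x i j) (x j i)
  φx : ∀ {i j}, i ≠ j → ∀ t, φ (x i j t) = Matrix.transvection (ι i) (ι j) t

namespace Sys

variable {n : ℕ} {N K G : Type*} [Field K] [Group G] [Fintype N] [DecidableEq N] (S : Sys n N K G)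

/-- The action on column vectors. -/
def act (g : G) (v : N → K) : N → K := S.φ g *ᵥ v

/-- The standard vector of an index. -/
def e (i : Fin n) : N → K := Pi.single (S.ι i) 1

theorem e_self (i : Fin n) : S.e i (S.ι i) = 1 := by simp [e]

theorem e_ne {i j : Fin n} (h : j ≠ i) : S.e i (S.ι j) = 0 := by
  simp [e, S.inj.ne h]

theorem act_mul (g h : G) (v : N → K) : S.act (g * h) v = S.act g (S.act h v) := by
  simp [act, Matrix.mulVec_mulVec]

theorem act_one (v : N → K) : S.act 1 v = v := by simp [act]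

theorem act_x {i j : Fin n} (h : i ≠ j) (t : K) (v : N → K) :
    S.act (S.x i j t) v = v + Pi.single (S.ι i) (t * v (S.ι j)) := by
  rw [act, S.φx h, Matrix.transvection, Matrix.add_mulVec, Matrix.one_mulVec]
  congr 1
  funext p
  by_cases hp : p = S.ι i
  · subst hp; simp [Matrix.mulVec, dotProduct, Matrix.single_apply]
  · simp [Matrix.mulVec, dotProduct, Matrix.single_apply, hp, Ne.symm hp]

theorem x_zero {i j : Fin n} (h : i ≠ j) : S.x i j 0 = 1 := (S.rels h).x_zero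

theorem x_neg {i j : Fin n} (h : i ≠ j) (a : K) : S.x i j (-a) = (S.x i j a)⁻¹ := (S.rels h).x_neg a

/-- The subgroup generated by a set of positions. -/
def sub (P : Fin n → Fin n → Prop) : Subgroup G :=
  Subgroup.closure {g | ∃ i j t, i ≠ j ∧ P i j ∧ S.x i j t = g}

theorem x_mem {P : Fin n → Fin n → Prop} {i j : Fin n} (h : i ≠ j) (hp : P i j) (t : K) : S.x i j t ∈ S.sub P :=
  Subgroup.subset_closure ⟨i, j, t, h, hp, rfl⟩

theorem sub_mono {P Q : Fin n → Fin n → Prop} (h : ∀ i j, i ≠ j → P i j → Q i j) : S.sub P ≤ S.sub Q :=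
  Subgroup.closure_mono fun _ ⟨i, j, t, hij, hp, e⟩ => ⟨i, j, t, hij, h i j hij hp, e⟩

theorem sub_induction {P : Fin n → Fin n → Prop} {Q : G → Prop} (h1 : Q 1)
    (hx : ∀ i j t y, i ≠ j → P i j → y ∈ S.sub P → Q y → Q (S.x i j t * y)) {g : G} (hg : g ∈ S.sub P) : Q g := by
  induction hg using Subgroup.closure_induction_left with
  | one => exact h1
  | mul_left z hz y hy ih =>
    obtain ⟨i, j, t, hij, hp, rfl⟩ := hz
    exact hx i j t y hij hp hy ih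
  | inv_mul_cancel z hz y hy ih =>
    obtain ⟨i, j, t, hij, hp, rfl⟩ := hz
    rw [← S.x_neg hij]
    exact hx i j (-t) y hij hp hy ih

theorem keep {P : Fin n → Fin n → Prop} {p : N} (h : ∀ i j, i ≠ j → P i j → S.ι i ≠ p) {g : G}
    (hg : g ∈ S.sub P) (v : N → K) : S.act g v p = v p := by
  refine S.sub_induction (Q := fun g => S.act g v p = v p) (by rw [S.act_one]) (fun i j t y hij hp _ ih => ?_) hg
  rw [S.act_mul, S.act_x hij]
  simp [Ne.symm (h i j hij hp), ih]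

theorem fix {P : Fin n → Fin n → Prop} {v : N → K} (h : ∀ i j, i ≠ j → P i j → v (S.ι j) = 0) {g : G}
    (hg : g ∈ S.sub P) : S.act g v = v := by
  refine S.sub_induction (Q := fun g => S.act g v = v) (S.act_one v) (fun i j t y hij hp _ ih => ?_) hg
  rw [S.act_mul, ih, S.act_x hij, h i j hij hp]
  simp

theorem conj_mem {P : Fin n → Fin n → Prop} {T : Subgroup G} {h : G}
    (hh : ∀ i j t, i ≠ j → P i j → h * S.x i j t * h⁻¹ ∈ T) {g : G} (hg : g ∈ S.sub P) : h * g * h⁻¹ ∈ T := by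
  refine S.sub_induction (Q := fun g => h * g * h⁻¹ ∈ T) (by simp) (fun i j t y hij hp _ ih => ?_) hg
  rw [show h * (S.x i j t * y) * h⁻¹ = (h * S.x i j t * h⁻¹) * (h * y * h⁻¹) by group]
  exact mul_mem (hh i j t hij hp) ih

theorem commute_sub {P : Fin n → Fin n → Prop} {h : G}
    (hh : ∀ i j t, i ≠ j → P i j → Commute h (S.x i j t)) {g : G} (hg : g ∈ S.sub P) : Commute h g :=
  S.sub_induction (Q := fun g => Commute h g) (Commute.one_right h)
    (fun i j t _ hij hp _ ih => (hh i j t hij hp).mul_right ih) hg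

theorem conj_mul {i j k : Fin n} (h1 : i ≠ j) (h2 : j ≠ k) (h3 : i ≠ k) (t u : K) :
    S.x i j t * S.x j k u * (S.x i j t)⁻¹ = S.x i k (t * u) * S.x j k u := by
  rw [← S.mul h1 h2 h3, commutatorElement_def]; group

theorem conj_mul' {i j k : Fin n} (h1 : i ≠ j) (h2 : j ≠ k) (h3 : i ≠ k) (t u : K) :
    S.x j k u * S.x i j t * (S.x j k u)⁻¹ = S.x i k (-(t * u)) * S.x i j t := by
  rw [S.x_neg h3, ← S.mul h1 h2 h3, commutatorElement_def]; group

theorem conj_eq {i j k l : Fin n} (h1 : i ≠ j) (h2 : k ≠ l) (h3 : j ≠ k) (h4 : i ≠ l) (t u : K) :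
    S.x i j t * S.x k l u * (S.x i j t)⁻¹ = S.x k l u := by
  rw [(S.comm h1 h2 h3 h4 t u).eq, mul_inv_cancel_right]

theorem conjW (g w : K → G) (a : G) (t : K) :
    W g w t * a * (W g w t)⁻¹ = g t * (w (-t⁻¹) * (g t * a * (g t)⁻¹) * (w (-t⁻¹))⁻¹) * (g t)⁻¹ := by
  simp only [W]; group

theorem W_il {i j l : Fin n} (hij : i ≠ j) (hl1 : l ≠ i) (hl2 : l ≠ j) {s : K} (hs : s ≠ 0) (t : K) :
    W (S.x i j) (S.x j i) s * S.x i l t * (W (S.x i j) (S.x j i) s)⁻¹ = S.x j l (-(t * s⁻¹)) := by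
  rw [conjW, S.conj_eq hij (Ne.symm hl1) hij.symm (Ne.symm hl1),
    S.conj_mul hij.symm (Ne.symm hl1) (Ne.symm hl2),
    show S.x i j s * (S.x j l (-s⁻¹ * t) * S.x i l t) * (S.x i j s)⁻¹ =
      (S.x i j s * S.x j l (-s⁻¹ * t) * (S.x i j s)⁻¹) * (S.x i j s * S.x i l t * (S.x i j s)⁻¹) by group,
    S.conj_eq hij (Ne.symm hl1) hij.symm (Ne.symm hl1), S.conj_mul hij (Ne.symm hl2) (Ne.symm hl1),
    (S.comm (Ne.symm hl1) (Ne.symm hl2) hl2 (Ne.symm hl1) _ _).eq, mul_assoc (S.x j l _), ← S.add (Ne.symm hl1),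
    show s * (-s⁻¹ * t) + t = 0 by field_simp; ring, S.x_zero (Ne.symm hl1), mul_one]
  congr 1; ring

theorem W_jl {i j l : Fin n} (hij : i ≠ j) (hl1 : l ≠ i) (hl2 : l ≠ j) {s : K} (hs : s ≠ 0) (t : K) :
    W (S.x i j) (S.x j i) s * S.x j l t * (W (S.x i j) (S.x j i) s)⁻¹ = S.x i l (s * t) := by
  rw [← (S.rels hij).W_swap hs, S.W_il hij.symm hl2 hl1 (neg_ne_zero.mpr (inv_ne_zero hs))]
  congr 1; field_simp

theorem W_li {i j l : Fin n} (hij : i ≠ j) (hl1 : l ≠ i) (hl2 : l ≠ j) {s : K} (hs : s ≠ 0) (t : K) :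
    W (S.x i j) (S.x j i) s * S.x l i t * (W (S.x i j) (S.x j i) s)⁻¹ = S.x l j (-(s * t)) := by
  rw [conjW, S.conj_mul' hl1 hij hl2,
    show S.x j i (-s⁻¹) * (S.x l j (-(t * s)) * S.x l i t) * (S.x j i (-s⁻¹))⁻¹ =
      (S.x j i (-s⁻¹) * S.x l j (-(t * s)) * (S.x j i (-s⁻¹))⁻¹) *
        (S.x j i (-s⁻¹) * S.x l i t * (S.x j i (-s⁻¹))⁻¹) by group,
    S.conj_mul' hl2 hij.symm hl1, S.conj_eq hij.symm hl1 (Ne.symm hl1) hij.symm,
    (S.comm hl1 hl2 (Ne.symm hl1) hl2 _ _).eq, mul_assoc (S.x l j _), ← S.add hl1,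
    show -(-(t * s) * -s⁻¹) + t = 0 by field_simp; ring, S.x_zero hl1, mul_one,
    S.conj_eq hij hl2 (Ne.symm hl2) hij]
  congr 1; ring

theorem W_lj {i j l : Fin n} (hij : i ≠ j) (hl1 : l ≠ i) (hl2 : l ≠ j) {s : K} (hs : s ≠ 0) (t : K) :
    W (S.x i j) (S.x j i) s * S.x l j t * (W (S.x i j) (S.x j i) s)⁻¹ = S.x l i (t * s⁻¹) := by
  rw [← (S.rels hij).W_swap hs, S.W_li hij.symm hl2 hl1 (neg_ne_zero.mpr (inv_ne_zero hs))]
  congr 1; ring

/-- The torus element of a pair. -/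
def h (i j : Fin n) (μ : K) : G := H (S.x i j) (S.x j i) μ

theorem h_conj {i j : Fin n} (μ : K) (a : G) :
    S.h i j μ * a * (S.h i j μ)⁻¹ = W (S.x i j) (S.x j i) μ *
      (W (S.x i j) (S.x j i) (-1) * a * (W (S.x i j) (S.x j i) (-1))⁻¹) * (W (S.x i j) (S.x j i) μ)⁻¹ := by
  simp only [h, H]; group

theorem h_il {i j l : Fin n} (hij : i ≠ j) (hl1 : l ≠ i) (hl2 : l ≠ j) {μ : K} (hμ : μ ≠ 0) (t : K) :
    S.h i j μ * S.x i l t * (S.h i j μ)⁻¹ = S.x i l (μ * t) := by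
  rw [h_conj, S.W_il hij hl1 hl2 (neg_ne_zero.mpr one_ne_zero), S.W_jl hij hl1 hl2 hμ]
  congr 1; field_simp

theorem h_jl {i j l : Fin n} (hij : i ≠ j) (hl1 : l ≠ i) (hl2 : l ≠ j) {μ : K} (hμ : μ ≠ 0) (t : K) :
    S.h i j μ * S.x j l t * (S.h i j μ)⁻¹ = S.x j l (μ⁻¹ * t) := by
  rw [h_conj, S.W_jl hij hl1 hl2 (neg_ne_zero.mpr one_ne_zero), S.W_il hij hl1 hl2 hμ]
  congr 1; ring

theorem h_lj {i j l : Fin n} (hij : i ≠ j) (hl1 : l ≠ i) (hl2 : l ≠ j) {μ : K} (hμ : μ ≠ 0) (t : K) :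
    S.h i j μ * S.x l j t * (S.h i j μ)⁻¹ = S.x l j (μ * t) := by
  rw [h_conj, S.W_lj hij hl1 hl2 (neg_ne_zero.mpr one_ne_zero), S.W_li hij hl1 hl2 hμ]
  congr 1; field_simp

theorem h_disjoint {i j k l : Fin n} (hij : i ≠ j) (hkl : k ≠ l) (h1 : k ≠ i) (h2 : k ≠ j) (h3 : l ≠ i)
    (h4 : l ≠ j) (μ t : K) : S.h i j μ * S.x k l t * (S.h i j μ)⁻¹ = S.x k l t := by
  have c1 : ∀ s, Commute (S.x i j s) (S.x k l t) := fun s => S.comm hij hkl (Ne.symm h2) (Ne.symm h3) s t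
  have c2 : ∀ s, Commute (S.x j i s) (S.x k l t) := fun s => S.comm hij.symm hkl (Ne.symm h1) (Ne.symm h4) s t
  have : Commute (S.h i j μ) (S.x k l t) :=
    (((c1 _).mul_left (c2 _)).mul_left (c1 _)).mul_left (((c1 _).mul_left (c2 _)).mul_left (c1 _))
  rw [this.eq, mul_inv_cancel_right]

theorem act_pair_x {i j : Fin n} (hij : i ≠ j) (t : K) (v : N → K) :
    S.act (S.x i j t) v (S.ι i) = v (S.ι i) + t * v (S.ι j) ∧ S.act (S.x i j t) v (S.ι j) = v (S.ι j) := by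
  rw [S.act_x hij]
  simp [S.inj.ne hij, (S.inj.ne hij).symm]

theorem act_W {i j : Fin n} (hij : i ≠ j) {t : K} (ht : t ≠ 0) (v : N → K) :
    S.act (W (S.x i j) (S.x j i) t) v (S.ι i) = t * v (S.ι j) ∧
      S.act (W (S.x i j) (S.x j i) t) v (S.ι j) = -(t⁻¹ * v (S.ι i)) := by
  simp only [W, S.act_mul, (S.act_pair_x hij _ _).1, (S.act_pair_x hij _ _).2,
    (S.act_pair_x hij.symm _ _).1, (S.act_pair_x hij.symm _ _).2]
  constructor <;> (field_simp; ring)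

theorem act_h {i j : Fin n} (hij : i ≠ j) {μ : K} (hμ : μ ≠ 0) (v : N → K) :
    S.act (S.h i j μ) v (S.ι i) = μ * v (S.ι i) ∧ S.act (S.h i j μ) v (S.ι j) = μ⁻¹ * v (S.ι j) := by
  simp only [h, H, S.act_mul, (S.act_W hij hμ _).1, (S.act_W hij hμ _).2,
    (S.act_W hij (neg_ne_zero.mpr one_ne_zero) _).1, (S.act_W hij (neg_ne_zero.mpr one_ne_zero) _).2]
  constructor <;> simp

theorem h_mem {P : Fin n → Fin n → Prop} {i j : Fin n} (hij : i ≠ j) (h1 : P i j) (h2 : P j i) (μ : K) :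
    S.h i j μ ∈ S.sub P :=
  mul_mem (mul_mem (mul_mem (S.x_mem hij h1 _) (S.x_mem hij.symm h2 _)) (S.x_mem hij h1 _))
    (mul_mem (mul_mem (S.x_mem hij h1 _) (S.x_mem hij.symm h2 _)) (S.x_mem hij h1 _))

theorem pair_inj [Finite K] {i j : Fin n} (hij : i ≠ j) {g : G} (hg : g ∈ gen (S.x i j) (S.x j i))
    (hi : S.act g (S.e i) (S.ι j) = 0) (hj1 : S.act g (S.e j) (S.ι i) = 0) (hj2 : S.act g (S.e j) (S.ι j) = 1) :
    g = 1 := by
  rcases (S.rels hij).normal_of_mem hg with ⟨a, t, ht, rfl⟩ | ⟨a, t, b, ht, rfl⟩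
  · simp only [S.act_mul, (S.act_pair_x hij _ _).1, (S.act_pair_x hij _ _).2,
      show H (S.x i j) (S.x j i) t = S.h i j t from rfl, (S.act_h hij ht _).1, (S.act_h hij ht _).2,
      S.e_self, S.e_ne hij, mul_zero, zero_add, mul_one] at hj1 hj2
    rw [hj2, mul_one] at hj1
    rw [inv_eq_one.mp hj2, hj1, S.x_zero hij, (S.rels hij).H_one, one_mul]
  · exfalso
    simp only [S.act_mul, (S.act_pair_x hij _ _).1, (S.act_pair_x hij _ _).2,
      show H (S.x i j) (S.x j i) t = S.h i j t from rfl, (S.act_h hij ht _).1, (S.act_h hij ht _).2,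
      (S.act_W hij (one_ne_zero (α := K)) _).1, (S.act_W hij (one_ne_zero (α := K)) _).2,
      S.e_self, S.e_ne hij.symm, mul_zero, add_zero] at hi
    exact inv_ne_zero ht (by simpa using hi)

theorem pair_identity [Finite K] {i j : Fin n} (hij : i ≠ j) {c u : K} (hμ : 1 + c * u ≠ 0) :
    S.x i j c * S.x j i u =
      S.x j i (u / (1 + c * u)) * S.h i j (1 + c * u) * S.x i j (c / (1 + c * u)) := by
  set μ := 1 + c * u with hμd
  set P : Fin n → Fin n → Prop := fun a b => (a = i ∧ b = j) ∨ (a = j ∧ b = i)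
  have hle : S.sub P ≤ gen (S.x i j) (S.x j i) := by
    rw [sub, Subgroup.closure_le]
    rintro _ ⟨a, b, t, -, ⟨rfl, rfl⟩ | ⟨rfl, rfl⟩, rfl⟩
    · exact Subgroup.subset_closure (Or.inl ⟨t, rfl⟩)
    · exact Subgroup.subset_closure (Or.inr ⟨t, rfl⟩)
  have m1 : ∀ t, S.x i j t ∈ S.sub P := fun t => S.x_mem hij (Or.inl ⟨rfl, rfl⟩) t
  have m2 : ∀ t, S.x j i t ∈ S.sub P := fun t => S.x_mem hij.symm (Or.inr ⟨rfl, rfl⟩) t
  set A := S.x i j c * S.x j i u
  set B := S.x j i (u / μ) * S.h i j μ * S.x i j (c / μ)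
  have hB : B ∈ S.sub P := mul_mem (mul_mem (m2 _) (S.h_mem hij (Or.inl ⟨rfl, rfl⟩) (Or.inr ⟨rfl, rfl⟩) μ)) (m1 _)
  have hmem : B⁻¹ * A ∈ S.sub P := mul_mem (inv_mem hB) (mul_mem (m1 _) (m2 _))
  have hcoord : ∀ v, S.act A v (S.ι i) = S.act B v (S.ι i) ∧ S.act A v (S.ι j) = S.act B v (S.ι j) := by
    intro v
    simp only [A, B, S.act_mul, (S.act_pair_x hij _ _).1, (S.act_pair_x hij _ _).2,
      (S.act_pair_x hij.symm _ _).1, (S.act_pair_x hij.symm _ _).2, (S.act_h hij hμ _).1, (S.act_h hij hμ _).2]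
    constructor <;> (field_simp; rw [hμd]; ring)
  have hv : ∀ v, S.act A v = S.act B v := by
    intro v
    funext p
    by_cases hp : p = S.ι i
    · subst hp; exact (hcoord v).1
    by_cases hq : p = S.ι j
    · subst hq; exact (hcoord v).2
    have k : ∀ a b, a ≠ b → P a b → S.ι a ≠ p := by
      rintro a b - (⟨rfl, -⟩ | ⟨rfl, -⟩)
      exacts [Ne.symm hp, Ne.symm hq]
    rw [S.keep k (mul_mem (m1 _) (m2 _)), S.keep k hB]
  have hfix : ∀ v, S.act (B⁻¹ * A) v = v := fun v => by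
    rw [S.act_mul, hv, ← S.act_mul, inv_mul_cancel, S.act_one]
  have := S.pair_inj hij (hle hmem) (by rw [hfix, S.e_ne hij.symm]) (by rw [hfix, S.e_ne hij])
    (by rw [hfix, S.e_self])
  exact (inv_mul_eq_one.mp this).symm

end Sys

end CfsgLib.StSL
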