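/-
Faithfulness of the matrix action on groups with the Steinberg relations of type A over a finite field.
-/
import Cfsg.Agent.Lib.StSL.Sys

set_option autoImplicit false

namespace CfsgLib.StSL

open Matrix
open scoped commutatorElement
open CfsgLib.SL2St

namespace Sys

variable {N K G : Type*} [Field K] [Group G] [Fintype N] [DecidableEq N]

/-- The system on all indices but the first. -/
def tail {n : ℕ} (S : Sys (n + 1) N K G) : Sys n N K G where
  x a b := S.x a.succ b.succ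
  ι a := S.ι a.succ
  φ := S.φ
  inj := S.inj.comp (Fin.succ_injective n)
  add h := S.add ((Fin.succ_injective n).ne h)
  comm h1 h2 h3 h4 := S.comm ((Fin.succ_injective n).ne h1) ((Fin.succ_injective n).ne h2)
    ((Fin.succ_injective n).ne h3) ((Fin.succ_injective n).ne h4)
  mul h1 h2 h3 := S.mul ((Fin.succ_injective n).ne h1) ((Fin.succ_injective n).ne h2) ((Fin.succ_injective n).ne h3)
  rels h := S.rels ((Fin.succ_injective n).ne h)
  φx h := S.φx ((Fin.succ_injective n).ne h)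

section Step

variable {n : ℕ} (S : Sys (n + 1) N K G)

/-- The positions outside the first column. -/
def Qset (_i j : Fin (n + 1)) : Prop := j ≠ 0

/-- The positions outside the first row and column. -/
def Aset (i j : Fin (n + 1)) : Prop := i ≠ 0 ∧ j ≠ 0

/-- The first column. -/
def Cset (_i j : Fin (n + 1)) : Prop := j = 0

/-- The first row. -/
def Rset (i _j : Fin (n + 1)) : Prop := i = 0

theorem col_inj (s : Finset (Fin (n + 1))) {g : G} (hg : g ∈ S.sub fun i j => j = 0 ∧ i ∈ s)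
    (h : S.act g (S.e 0) = S.e 0) : g = 1 := by
  induction s using Finset.induction_on generalizing g with
  | empty =>
    have : S.sub (fun i j => j = 0 ∧ i ∈ (∅ : Finset (Fin (n + 1)))) = ⊥ := by
      rw [eq_bot_iff, sub, Subgroup.closure_le]
      rintro _ ⟨i, j, t, -, ⟨-, hi⟩, -⟩
      simp at hi
    rwa [this, Subgroup.mem_bot] at hg
  | insert k s hk ih =>
    by_cases hk0 : k = 0
    · refine ih (S.sub_mono (fun i j hij hp => ⟨hp.1, (Finset.mem_insert.mp hp.2).resolve_left fun e => ?_⟩) hg) h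
      exact hij (e.trans (hk0.trans hp.1.symm))
    have dec : ∀ g ∈ S.sub (fun i j => j = 0 ∧ i ∈ insert k s),
        ∃ m ∈ S.sub (fun i j => j = 0 ∧ i ∈ s), ∃ u, g = m * S.x k 0 u := by
      intro g hg
      refine S.sub_induction (Q := fun g => ∃ m ∈ S.sub (fun i j => j = 0 ∧ i ∈ s), ∃ u, g = m * S.x k 0 u)
        ⟨1, one_mem _, 0, by rw [S.x_zero hk0, mul_one]⟩ (fun i j t y hij hp _ ⟨m, hm, u, e⟩ => ?_) hg
      obtain ⟨rfl, hi⟩ := hp
      subst e
      rcases Finset.mem_insert.mp hi with rfl | hi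
      · refine ⟨m, hm, t + u, ?_⟩
        rw [S.add hij, ← mul_assoc, ← mul_assoc, (S.commute_sub (fun a b v hab hp => ?_) hm).eq]
        obtain ⟨rfl, -⟩ := hp
        exact S.comm hij hab (Ne.symm hab) hij _ _
      · exact ⟨S.x i 0 t * m, mul_mem (S.x_mem hij (show (0 : Fin (n + 1)) = 0 ∧ i ∈ s from ⟨rfl, hi⟩) t) hm, u,
          (mul_assoc _ _ _).symm⟩
    obtain ⟨m, hm, u, rfl⟩ := dec g hg
    have hu : u = 0 := by
      have := congrFun h (S.ι k)
      rw [S.act_mul, S.keep (fun i j _ hp e => hk (by rw [← S.inj e]; exact hp.2)) hm, (S.act_pair_x hk0 _ _).1, S.e_self,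
        S.e_ne hk0] at this
      simpa using this
    subst hu
    rw [S.x_zero hk0, mul_one] at h ⊢
    exact ih hm h

theorem row_inj (s : Finset (Fin (n + 1))) {g : G} (hg : g ∈ S.sub fun i j => i = 0 ∧ j ∈ s)
    (h : ∀ k, k ≠ 0 → S.act g (S.e k) = S.e k) : g = 1 := by
  induction s using Finset.induction_on generalizing g with
  | empty =>
    have : S.sub (fun i j => i = 0 ∧ j ∈ (∅ : Finset (Fin (n + 1)))) = ⊥ := by
      rw [eq_bot_iff, sub, Subgroup.closure_le]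
      rintro _ ⟨i, j, t, -, ⟨-, hi⟩, -⟩
      simp at hi
    rwa [this, Subgroup.mem_bot] at hg
  | insert k s hk ih =>
    by_cases hk0 : k = 0
    · refine ih (S.sub_mono (fun i j hij hp => ⟨hp.1, (Finset.mem_insert.mp hp.2).resolve_left fun e => ?_⟩) hg) h
      exact hij (hp.1.trans (hk0.symm.trans e.symm))
    have dec : ∀ g ∈ S.sub (fun i j => i = 0 ∧ j ∈ insert k s),
        ∃ m ∈ S.sub (fun i j => i = 0 ∧ j ∈ s), ∃ u, g = S.x 0 k u * m := by
      intro g hg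
      refine S.sub_induction (Q := fun g => ∃ m ∈ S.sub (fun i j => i = 0 ∧ j ∈ s), ∃ u, g = S.x 0 k u * m)
        ⟨1, one_mem _, 0, by rw [S.x_zero (Ne.symm hk0), mul_one]⟩ (fun i j t y hij hp _ ⟨m, hm, u, e⟩ => ?_) hg
      obtain ⟨rfl, hi⟩ := hp
      subst e
      rcases Finset.mem_insert.mp hi with rfl | hi
      · exact ⟨m, hm, t + u, by rw [S.add hij, mul_assoc]⟩
      · refine ⟨S.x 0 j t * m, mul_mem (S.x_mem hij (show (0 : Fin (n + 1)) = 0 ∧ j ∈ s from ⟨rfl, hi⟩) t) hm, u, ?_⟩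
        rw [← mul_assoc, (S.comm hij (Ne.symm hk0) hij.symm (Ne.symm hk0) t u).eq, mul_assoc]
    obtain ⟨m, hm, u, rfl⟩ := dec g hg
    have hfix : S.act m (S.e k) = S.e k := S.fix (fun i j _ hp => S.e_ne fun e => hk (by rw [← e]; exact hp.2)) hm
    have hu : u = 0 := by
      have := congrFun (h k hk0) (S.ι 0)
      rw [S.act_mul, hfix, (S.act_pair_x (Ne.symm hk0) _ _).1, S.e_self, S.e_ne (Ne.symm hk0)] at this
      simpa using this
    subst hu
    rw [S.x_zero (Ne.symm hk0), one_mul] at h ⊢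
    exact ih hm h

theorem conj_R {a b : Fin (n + 1)} (hab : a ≠ b) (ha : a ≠ 0) (hb : b ≠ 0) (t : K) {g : G}
    (hg : g ∈ S.sub Rset) : S.x a b t * g * (S.x a b t)⁻¹ ∈ S.sub Rset := by
  refine S.conj_mem (fun i j u hij hp => ?_) hg
  obtain rfl : i = 0 := hp
  by_cases hja : j = a
  · subst hja
    rw [S.conj_mul' hij hab (Ne.symm hb)]
    exact mul_mem (S.x_mem (Ne.symm hb) rfl _) (S.x_mem hij rfl _)
  · rw [S.conj_eq hab hij hb (Ne.symm hja)]
    exact S.x_mem hij rfl _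

theorem Q_split {g : G} (hg : g ∈ S.sub Qset) : ∃ r ∈ S.sub Rset, ∃ a ∈ S.sub Aset, g = r * a := by
  refine S.sub_induction (Q := fun g => ∃ r ∈ S.sub Rset, ∃ a ∈ S.sub Aset, g = r * a)
    ⟨1, one_mem _, 1, one_mem _, (mul_one _).symm⟩ (fun i j t y hij hp _ ⟨r, hr, a, ha, e⟩ => ?_) hg
  subst e
  by_cases hi : i = 0
  · subst hi
    exact ⟨S.x 0 j t * r, mul_mem (S.x_mem hij rfl t) hr, a, ha, (mul_assoc _ _ _).symm⟩
  · exact ⟨S.x i j t * r * (S.x i j t)⁻¹, S.conj_R hij hi hp t hr, S.x i j t * a,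
      mul_mem (S.x_mem hij (show Aset i j from ⟨hi, hp⟩) t) ha, by group⟩

theorem conj_C {a b : Fin (n + 1)} (hab : a ≠ b) (ha : a ≠ 0) (t : K) {g : G}
    (hg : g ∈ S.sub Cset) : S.x a b t * g * (S.x a b t)⁻¹ ∈ S.sub Cset := by
  refine S.conj_mem (fun i j u hij hp => ?_) hg
  obtain rfl : j = 0 := hp
  by_cases hbi : b = i
  · subst hbi
    rw [S.conj_mul hab hij ha]
    exact mul_mem (S.x_mem ha rfl _) (S.x_mem hij rfl _)
  · rw [S.conj_eq hab hij hbi ha]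
    exact S.x_mem hij rfl _

variable [Finite K] {o : Fin (n + 1)} (ho : o ≠ 0)

include ho in
theorem h_conj_A {μ : K} (hμ : μ ≠ 0) {g : G} (hg : g ∈ S.sub Aset) :
    S.h 0 o μ * g * (S.h 0 o μ)⁻¹ ∈ S.sub Aset := by
  refine S.conj_mem (fun i j u hij hp => ?_) hg
  obtain ⟨hi, hj⟩ := hp
  by_cases hio : i = o
  · subst hio
    rw [S.h_jl (Ne.symm ho) hj (Ne.symm hij) hμ]
    exact S.x_mem hij ⟨hi, hj⟩ _
  by_cases hjo : j = o
  · subst hjo
    rw [S.h_lj (Ne.symm ho) hi hio hμ]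
    exact S.x_mem hij ⟨hi, hj⟩ _
  rw [S.h_disjoint (Ne.symm ho) hij hi hio hj hjo]
  exact S.x_mem hij ⟨hi, hj⟩ _

include ho in
theorem h_inv {μ : K} (hμ : μ ≠ 0) : (S.h 0 o μ)⁻¹ = S.h 0 o μ⁻¹ :=
  ((S.rels (Ne.symm ho)).H_inv hμ).symm

include ho in
theorem h_conj_A' {μ : K} (hμ : μ ≠ 0) {g : G} (hg : g ∈ S.sub Aset) :
    (S.h 0 o μ)⁻¹ * g * S.h 0 o μ ∈ S.sub Aset := by
  have := S.h_conj_A ho (inv_ne_zero hμ) hg
  rwa [← S.h_inv ho hμ, inv_inv] at this

include ho in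
theorem h_conj_row {μ : K} (hμ : μ ≠ 0) {k : Fin (n + 1)} (hk : k ≠ 0) (t : K) :
    (S.h 0 o μ)⁻¹ * S.x 0 k t * S.h 0 o μ ∈ S.sub Qset := by
  rw [show (S.h 0 o μ)⁻¹ * S.x 0 k t * S.h 0 o μ = S.h 0 o μ⁻¹ * S.x 0 k t * (S.h 0 o μ⁻¹)⁻¹ by
    rw [← S.h_inv ho hμ, inv_inv]]
  by_cases hko : k = o
  · subst hko
    rw [show S.h 0 k μ⁻¹ = H (S.x 0 k) (S.x k 0) μ⁻¹ from rfl, (S.rels (Ne.symm hk)).H_conj_x (inv_ne_zero hμ)]
    exact S.x_mem (Ne.symm hk) hk _
  · rw [S.h_il (Ne.symm ho) hk hko (inv_ne_zero hμ)]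
    exact S.x_mem (Ne.symm hk) hk _

include ho in
theorem h_mul_A {μ : K} (hμ : μ ≠ 0) {k : Fin (n + 1)} (hk : k ≠ 0) :
    (S.h 0 o μ)⁻¹ * S.h 0 k μ ∈ S.sub Aset := by
  by_cases hko : k = o
  · subst hko; rw [inv_mul_cancel]; exact one_mem _
  have hok : o ≠ k := Ne.symm hko
  set w := W (S.x o k) (S.x k o) (-1)
  have hw : w ∈ S.sub Aset := mul_mem (mul_mem (S.x_mem hok ⟨ho, hk⟩ _) (S.x_mem hko ⟨hk, ho⟩ _))
    (S.x_mem hok ⟨ho, hk⟩ _)
  have e1 : ∀ t, w * S.x 0 o t * w⁻¹ = S.x 0 k t := fun t => by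
    rw [S.W_li hok (Ne.symm ho) (Ne.symm hk) (neg_ne_zero.mpr one_ne_zero)]; congr 1; ring
  have e2 : ∀ t, w * S.x o 0 t * w⁻¹ = S.x k 0 t := fun t => by
    rw [S.W_il hok (Ne.symm ho) (Ne.symm hk) (neg_ne_zero.mpr one_ne_zero)]; congr 1; ring
  have e : S.h 0 k μ = w * S.h 0 o μ * w⁻¹ := by
    simp only [h, H, W, ← e1, ← e2]; group
  rw [e, show (S.h 0 o μ)⁻¹ * (w * S.h 0 o μ * w⁻¹) = ((S.h 0 o μ)⁻¹ * w * S.h 0 o μ) * w⁻¹ by group]
  exact mul_mem (S.h_conj_A' ho hμ hw) (inv_mem hw)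

/-- The big cell of cosets. -/
def Big (o : Fin (n + 1)) (g : G) : Prop :=
  ∃ c ∈ S.sub Cset, ∃ μ : K, μ ≠ 0 ∧ ∃ q ∈ S.sub Qset, g = c * S.h 0 o μ * q

/-- The zeroth coordinate of the image of the first vector. -/
def z (g : G) : K := S.act g (S.e 0) (S.ι 0)

theorem act_Q {g : G} (hg : g ∈ S.sub Qset) : S.act g (S.e 0) = S.e 0 :=
  S.fix (fun i j _ hp => S.e_ne hp) hg

include ho in
theorem z_big {c q : G} (hc : c ∈ S.sub Cset) (hq : q ∈ S.sub Qset) {μ : K} (hμ : μ ≠ 0) :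
    S.z (c * S.h 0 o μ * q) = μ := by
  rw [z, S.act_mul, S.act_mul, S.act_Q hq,
    S.keep (fun i j hij hp e => hij ((S.inj e).trans hp.symm)) hc, (S.act_h (Ne.symm ho) hμ _).1, S.e_self,
    mul_one]

include ho in
theorem big_z {g : G} (h : S.Big o g) : S.z g ≠ 0 := by
  obtain ⟨c, hc, μ, hμ, q, hq, rfl⟩ := h
  rw [S.z_big ho hc hq hμ]; exact hμ

theorem big_C {i : Fin (n + 1)} (hi : i ≠ 0) (t : K) {g : G} (h : S.Big o g) : S.Big o (S.x i 0 t * g) := by
  obtain ⟨c, hc, μ, hμ, q, hq, rfl⟩ := h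
  exact ⟨_, mul_mem (S.x_mem hi rfl t) hc, μ, hμ, q, hq, by group⟩

include ho in
theorem big_A {i j : Fin (n + 1)} (hij : i ≠ j) (hi : i ≠ 0) (hj : j ≠ 0) (t : K) {g : G} (h : S.Big o g) :
    S.Big o (S.x i j t * g) := by
  obtain ⟨c, hc, μ, hμ, q, hq, rfl⟩ := h
  exact ⟨_, S.conj_C hij hi t hc, μ, hμ, _,
    mul_mem (S.sub_mono (fun _ _ _ hp => hp.2) (S.h_conj_A' ho hμ (S.x_mem hij (show Aset i j from ⟨hi, hj⟩) t))) hq,
    by group⟩

include ho in
theorem big_M {k : Fin (n + 1)} (hk : k ≠ 0) {m : G}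
    (hm : m ∈ S.sub fun i j => (j = 0 ∧ i ≠ k) ∨ (i ≠ 0 ∧ j = k)) : ∀ g, S.Big o g → S.Big o (m * g) := by
  refine S.sub_induction (Q := fun m => ∀ g, S.Big o g → S.Big o (m * g)) (fun g h => by rwa [one_mul])
    (fun i j t y hij hp _ ih g h => ?_) hm
  rw [mul_assoc]
  rcases hp with ⟨rfl, -⟩ | ⟨hi, rfl⟩
  · exact S.big_C hij t (ih g h)
  · exact S.big_A ho hij hi hk t (ih g h)

include ho in
/-- Multiplying by a first-row element inside the big cell. -/
theorem big_row {k : Fin (n + 1)} (hk : k ≠ 0) (e : K) {g : G} (h : S.Big o g)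
    (hz : S.z (S.x 0 k e * g) ≠ 0) : S.Big o (S.x 0 k e * g) := by
  obtain ⟨c, hc, μ, hμ, q, hq, rfl⟩ := h
  set M : Fin (n + 1) → Fin (n + 1) → Prop := fun i j => (j = 0 ∧ i ≠ k) ∨ (i ≠ 0 ∧ j = k)
  obtain ⟨m, hm, u, rfl⟩ : ∃ m ∈ S.sub (fun i j => j = 0 ∧ i ≠ k), ∃ u, c = m * S.x k 0 u := by
    refine S.sub_induction (Q := fun c => ∃ m ∈ S.sub (fun i j => j = 0 ∧ i ≠ k), ∃ u, c = m * S.x k 0 u)
      ⟨1, one_mem _, 0, by rw [S.x_zero hk, mul_one]⟩ (fun i j t y hij hp _ ⟨m, hm, u, e⟩ => ?_) hc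
    obtain rfl : j = 0 := hp
    subst e
    by_cases hik : i = k
    · subst hik
      refine ⟨m, hm, t + u, ?_⟩
      rw [S.add hij, ← mul_assoc, ← mul_assoc, (S.commute_sub (fun a b v hab hp => ?_) hm).eq]
      obtain ⟨rfl, -⟩ := hp
      exact S.comm hij hab (Ne.symm hab) hij _ _
    · exact ⟨S.x i 0 t * m, mul_mem (S.x_mem hij (show (0 : Fin (n + 1)) = 0 ∧ i ≠ k from ⟨rfl, hik⟩) t) hm, u,
        (mul_assoc _ _ _).symm⟩
  set m' := S.x 0 k e * m * (S.x 0 k e)⁻¹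
  have hm' : m' ∈ S.sub M := by
    refine S.conj_mem (fun i j t hij hp => ?_) hm
    obtain ⟨rfl, hik⟩ := hp
    rw [S.conj_mul' hij (Ne.symm hk) hik]
    exact mul_mem (S.x_mem hik (Or.inr ⟨hij, rfl⟩) _) (S.x_mem hij (Or.inl ⟨rfl, hik⟩) _)
  rw [show S.x 0 k e * (m * S.x k 0 u * S.h 0 o μ * q) = m' * ((S.x 0 k e * S.x k 0 u) * S.h 0 o μ * q) by
    simp only [m']; group] at hz ⊢
  refine S.big_M ho hk hm' _ ?_
  have hν : 1 + e * u ≠ 0 := by
    intro e0
    apply hz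
    rw [z, S.act_mul m', S.keep (fun i j hij hp => ?_) hm', S.act_mul, S.act_Q hq, S.act_mul, S.act_mul,
      (S.act_pair_x (Ne.symm hk) _ _).1, (S.act_pair_x hk _ _).2, (S.act_pair_x hk _ _).1,
      (S.act_h (Ne.symm ho) hμ _).1]
    · by_cases hko : k = o
      · subst hko
        rw [(S.act_h (Ne.symm hk) hμ _).2, S.e_self, S.e_ne hk]
        linear_combination μ * e0
      · rw [S.keep (P := fun a b => (a = 0 ∧ b = o) ∨ (a = o ∧ b = 0))
          (fun a b _ hp e' => by rcases hp with ⟨rfl, -⟩ | ⟨rfl, -⟩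
                                 · exact hk (S.inj e').symm
                                 · exact hko (S.inj e').symm)
          (S.h_mem (Ne.symm ho) (Or.inl ⟨rfl, rfl⟩) (Or.inr ⟨rfl, rfl⟩) μ), S.e_self, S.e_ne hk]
        linear_combination μ * e0
    · intro e'
      rcases hp with ⟨rfl, -⟩ | ⟨hi, -⟩
      · exact hij (S.inj e')
      · exact hi (S.inj e')
  set ν := 1 + e * u with hνd
  set a := (S.h 0 o ν)⁻¹ * S.h 0 k ν with ha
  have haA : a ∈ S.sub Aset := S.h_mul_A ho hν hk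
  refine ⟨S.x k 0 (u / ν), S.x_mem hk rfl _, ν * μ, mul_ne_zero hν hμ,
    ((S.h 0 o μ)⁻¹ * a * S.h 0 o μ) * ((S.h 0 o μ)⁻¹ * S.x 0 k (e / ν) * S.h 0 o μ) * q,
    mul_mem (mul_mem (S.sub_mono (fun _ _ _ hp => hp.2) (S.h_conj_A' ho hμ haA)) (S.h_conj_row ho hμ hk _)) hq, ?_⟩
  have hhh : S.h 0 o (ν * μ) = S.h 0 o ν * S.h 0 o μ := (S.rels (Ne.symm ho)).H_mul hν hμ
  rw [S.pair_identity (Ne.symm hk) hν, ← hνd, hhh, ha]
  group

include ho in
/-- Two first-row elements. -/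
theorem big_row2 {k l : Fin (n + 1)} (hk : k ≠ 0) (hl : l ≠ 0) (hkl : k ≠ l) (d : K) {e : K} (he : e ≠ 0)
    {g : G} (h : S.Big o g) (hz : S.z (S.x 0 k e * (S.x 0 l d * g)) ≠ 0) :
    S.Big o (S.x 0 k e * (S.x 0 l d * g)) := by
  set a : K := -d / e
  have key : S.x 0 k e * (S.x 0 l d * g) = S.x k l a * (S.x 0 k e * (S.x k l (-a) * g)) := by
    rw [← mul_assoc (S.x 0 k e) (S.x k l (-a)), ← mul_assoc (S.x k l a), ← mul_assoc (S.x 0 k e) (S.x 0 l d),
      S.x_neg hkl a, ← mul_assoc (S.x k l a) (S.x 0 k e), S.conj_mul' (Ne.symm hk) hkl (Ne.symm hl),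
      show -(e * a) = d by simp only [a]; field_simp,
      (S.comm (Ne.symm hk) (Ne.symm hl) hk (Ne.symm hl) e d).eq]
  rw [key] at hz ⊢
  refine S.big_A ho hkl hk hl _ (S.big_row ho hk e (S.big_A ho hkl hk hl _ h) ?_)
  rwa [z, S.act_mul, S.keep (P := fun i _ => i = k) (fun i j _ hp e' => hk (hp.symm.trans (S.inj e')))
    (S.x_mem hkl rfl _)] at hz

/-- The invariant of the coset decomposition. -/
def Inv (o : Fin (n + 1)) (g : G) : Prop :=
  S.Big o g ∨ (S.z g = 0 ∧ ∃ k, k ≠ 0 ∧ S.act g (S.e 0) (S.ι k) ≠ 0 ∧ S.Big o (S.x 0 k 1 * g))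

theorem z_x {i j : Fin (n + 1)} (hij : i ≠ j) (hi : i ≠ 0) (t : K) (g : G) :
    S.z (S.x i j t * g) = S.z g := by
  rw [z, S.act_mul, S.act_x hij]
  simp [S.inj.ne (Ne.symm hi), z]

theorem coord_x {i j k : Fin (n + 1)} (hij : i ≠ j) (hik : k ≠ i) (t : K) (g : G) :
    S.act (S.x i j t * g) (S.e 0) (S.ι k) = S.act g (S.e 0) (S.ι k) := by
  rw [S.act_mul, S.act_x hij]
  simp [S.inj.ne hik]

include ho in
theorem inv_row {l : Fin (n + 1)} (hl : l ≠ 0) (t : K) {g : G} (h : S.Inv o g) : S.Inv o (S.x 0 l t * g) := by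
  by_cases ht : t = 0
  · subst ht; rwa [S.x_zero (Ne.symm hl), one_mul]
  have hzt : ∀ g, S.z (S.x 0 l t * g) = S.z g + t * S.act g (S.e 0) (S.ι l) := fun g => by
    rw [z, S.act_mul, (S.act_pair_x (Ne.symm hl) _ _).1]; rfl
  have hone : ∀ (k : Fin (n + 1)), k ≠ 0 → ∀ g, S.z (S.x 0 k 1 * g) = S.z g + S.act g (S.e 0) (S.ι k) := fun k hk g => by
    rw [z, S.act_mul, (S.act_pair_x (Ne.symm hk) _ _).1, one_mul]; rfl
  rcases h with h | ⟨hg0, k, hk, hv, hb⟩
  · by_cases hz : S.z (S.x 0 l t * g) = 0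
    · have hvl : S.act g (S.e 0) (S.ι l) ≠ 0 := fun e0 => S.big_z ho h (by rw [hzt, e0, mul_zero, add_zero] at hz; exact hz)
      refine Or.inr ⟨hz, l, hl, by rwa [S.coord_x (Ne.symm hl) hl], ?_⟩
      rw [← mul_assoc, ← S.add (Ne.symm hl)]
      refine S.big_row ho hl _ h ?_
      rw [S.add (Ne.symm hl), mul_assoc, hone l hl, hz, zero_add, S.coord_x (Ne.symm hl) hl]
      exact hvl
    · exact Or.inl (S.big_row ho hl t h hz)
  · by_cases hz : S.z (S.x 0 l t * g) = 0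
    · refine Or.inr ⟨hz, k, hk, by rwa [S.coord_x (Ne.symm hl) hk], ?_⟩
      have hcm : S.x 0 k 1 * (S.x 0 l t * g) = S.x 0 l t * (S.x 0 k 1 * g) := by
        rw [← mul_assoc, ← mul_assoc, (S.comm (Ne.symm hk) (Ne.symm hl) hk (Ne.symm hl) _ _).eq]
      rw [hcm]
      refine S.big_row ho hl t hb ?_
      rw [← hcm, hone k hk, hz, zero_add, S.coord_x (Ne.symm hl) hk]
      exact hv
    · refine Or.inl ?_
      have eg : S.x 0 l t * g = S.x 0 l t * (S.x 0 k (-1) * (S.x 0 k 1 * g)) := by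
        rw [← mul_assoc (S.x 0 k (-1)), ← S.add (Ne.symm hk), neg_add_cancel, S.x_zero (Ne.symm hk), one_mul]
      by_cases hkl : l = k
      · subst hkl
        have e2 : S.x 0 l t * g = S.x 0 l (t + -1) * (S.x 0 l 1 * g) := by
          rw [← mul_assoc, ← S.add (Ne.symm hl), neg_add_cancel_right]
        rw [e2] at hz ⊢
        exact S.big_row ho hl _ hb hz
      rw [eg] at hz ⊢
      exact S.big_row2 ho hl hk hkl _ ht hb hz

include ho in
theorem inv_A {i j : Fin (n + 1)} (hij : i ≠ j) (hi : i ≠ 0) (hj : j ≠ 0) (t : K) {g : G} (h : S.Inv o g) :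
    S.Inv o (S.x i j t * g) := by
  rcases h with h | ⟨hg0, k, hk, hv, hb⟩
  · exact Or.inl (S.big_A ho hij hi hj t h)
  have hz : S.z (S.x i j t * g) = 0 := by rw [S.z_x hij hi]; exact hg0
  by_cases hki : k = i
  · subst hki
    by_cases hvj : S.act g (S.e 0) (S.ι j) = 0
    · refine Or.inr ⟨hz, k, hk, by rwa [S.act_mul, (S.act_pair_x hij _ _).1, hvj, mul_zero, add_zero], ?_⟩
      have e2 : S.x 0 k 1 * (S.x k j t * g) = S.x 0 j t * (S.x k j t * (S.x 0 k 1 * g)) := by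
        rw [← mul_assoc, ← mul_assoc (S.x k j t), ← mul_assoc, ← one_mul t, ← S.mul (Ne.symm hk) hij (Ne.symm hj),
          one_mul, commutatorElement_def]
        group
      rw [e2]
      refine S.big_row ho hj t (S.big_A ho hij hi hj t hb) ?_
      rw [← e2, z, S.act_mul, (S.act_pair_x (Ne.symm hk) _ _).1, one_mul, show S.act (S.x k j t * g) (S.e 0) (S.ι 0) = 0 from hz,
        zero_add, S.act_mul, (S.act_pair_x hij _ _).1, hvj, mul_zero, add_zero]
      exact hv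
    · -- switch the witness to the column `j`
      have hb' : S.Big o (S.x 0 j 1 * g) := by
        have eg : S.x 0 j 1 * g = S.x 0 j 1 * (S.x 0 k (-1) * (S.x 0 k 1 * g)) := by
          rw [← mul_assoc (S.x 0 k (-1)), ← S.add (Ne.symm hk), neg_add_cancel, S.x_zero (Ne.symm hk), one_mul]
        have hz' : S.z (S.x 0 j 1 * g) ≠ 0 := by
          rw [z, S.act_mul, (S.act_pair_x (Ne.symm hj) _ _).1, one_mul, show S.act g (S.e 0) (S.ι 0) = 0 from hg0,
            zero_add]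
          exact hvj
        rw [eg] at hz' ⊢
        exact S.big_row2 ho hj hk (Ne.symm hij) _ one_ne_zero hb hz'
      refine Or.inr ⟨hz, j, hj, by rwa [S.coord_x hij (Ne.symm hij)], ?_⟩
      rw [← mul_assoc, (S.comm (Ne.symm hj) hij (Ne.symm hij) (Ne.symm hj) _ _).eq, mul_assoc]
      exact S.big_A ho hij hi hj t hb'
  · refine Or.inr ⟨hz, k, hk, by rwa [S.coord_x hij hki], ?_⟩
    rw [← mul_assoc, (S.comm (Ne.symm hk) hij hki (Ne.symm hj) _ _).eq, mul_assoc]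
    exact S.big_A ho hij hi hj t hb

include ho in
theorem inv_C_aux {i : Fin (n + 1)} (hi : i ≠ 0) (t : K) {g : G}
    (h : S.Big o g ∨ (S.z g = 0 ∧ ∃ k, k ≠ 0 ∧ k ≠ i ∧ S.act g (S.e 0) (S.ι k) ≠ 0 ∧ S.Big o (S.x 0 k 1 * g))) :
    S.Inv o (S.x i 0 t * g) ∧ S.z (S.x i 0 t * g) = S.z g := by
  refine ⟨?_, S.z_x hi hi t g⟩
  rcases h with h | ⟨hg0, k, hk, hki, hv, hb⟩
  · exact Or.inl (S.big_C hi t h)
  refine Or.inr ⟨by rw [S.z_x hi hi]; exact hg0, k, hk, by rwa [S.coord_x hi hki], ?_⟩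
  have e2 : S.x 0 k 1 * (S.x i 0 t * g) = S.x i k (-t) * (S.x i 0 t * (S.x 0 k 1 * g)) := by
    rw [← mul_assoc (S.x i 0 t), ← mul_assoc, ← mul_assoc, S.x_neg (Ne.symm hki), ← mul_one t,
      ← S.mul hi (Ne.symm hk) (Ne.symm hki), mul_one, commutatorElement_def]
    group
  rw [e2]
  exact S.big_A ho (Ne.symm hki) hi hk _ (S.big_C hi t hb)

include ho in
theorem inv_C (hn : 2 ≤ n) {i : Fin (n + 1)} (hi : i ≠ 0) (t : K) {g : G} (h : S.Inv o g) :
    S.Inv o (S.x i 0 t * g) := by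
  rcases h with h | ⟨hg0, k, hk, hv, hb⟩
  · exact Or.inl (S.big_C hi t h)
  by_cases hki : k = i
  swap
  · exact (S.inv_C_aux ho hi t (Or.inr ⟨hg0, k, hk, hki, hv, hb⟩)).1
  subst hki
  obtain ⟨j, hj, hjk⟩ : ∃ j : Fin (n + 1), j ≠ 0 ∧ j ≠ k := by
    by_contra hcon
    push Not at hcon
    have h1 := Finset.card_le_card (fun j _ => show j ∈ ({0, k} : Finset (Fin (n + 1))) by
      simp only [Finset.mem_insert, Finset.mem_singleton]
      exact or_iff_not_imp_left.mpr (hcon j) : (Finset.univ : Finset (Fin (n + 1))) ⊆ {0, k})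
    have h2 : ({0, k} : Finset (Fin (n + 1))).card ≤ 2 := Finset.card_le_two
    simp at h1
    omega
  by_cases hvj : S.act g (S.e 0) (S.ι j) = 0
  swap
  · -- switch the witness to the column `j`
    have hb' : S.Big o (S.x 0 j 1 * g) := by
      have eg : S.x 0 j 1 * g = S.x 0 j 1 * (S.x 0 k (-1) * (S.x 0 k 1 * g)) := by
        rw [← mul_assoc (S.x 0 k (-1)), ← S.add (Ne.symm hk), neg_add_cancel, S.x_zero (Ne.symm hk), one_mul]
      have hz' : S.z (S.x 0 j 1 * g) ≠ 0 := by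
        rw [z, S.act_mul, (S.act_pair_x (Ne.symm hj) _ _).1, one_mul, show S.act g (S.e 0) (S.ι 0) = 0 from hg0,
          zero_add]
        exact hvj
      rw [eg] at hz' ⊢
      exact S.big_row2 ho hj hk hjk _ one_ne_zero hb hz'
    exact (S.inv_C_aux ho hk t (Or.inr ⟨hg0, j, hj, hjk, hvj, hb'⟩)).1
  -- a detour through the third index
  rw [show t = t * 1 from (mul_one t).symm, ← S.mul (Ne.symm hjk) hj hk t 1, commutatorElement_def,
    ← S.x_neg (Ne.symm hjk), ← S.x_neg hj, mul_assoc, mul_assoc, mul_assoc]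
  set g1 := S.x j 0 (-1) * g
  have v1k : S.act g1 (S.e 0) (S.ι k) ≠ 0 := by rwa [S.coord_x hj (Ne.symm hjk)]
  have v1j : S.act g1 (S.e 0) (S.ι j) = 0 := by
    rw [S.act_mul, (S.act_pair_x hj _ _).1, hvj, show S.act g (S.e 0) (S.ι 0) = 0 from hg0]; simp
  have b1 : S.Inv o g1 := (S.inv_C_aux ho hj _ (Or.inr ⟨hg0, k, hk, Ne.symm hjk, hv, hb⟩)).1
  have z1 : S.z g1 = 0 := by rw [S.z_x hj hj]; exact hg0
  set g2 := S.x k j (-t) * g1
  have b2 : S.Inv o g2 := S.inv_A ho (Ne.symm hjk) hk hj _ b1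
  have z2 : S.z g2 = 0 := by rw [S.z_x (Ne.symm hjk) hk]; exact z1
  have v2j : S.act g2 (S.e 0) (S.ι j) = 0 := by rw [S.coord_x (Ne.symm hjk) hjk]; exact v1j
  refine S.inv_A ho (Ne.symm hjk) hk hj _ ?_
  rcases b2 with b2 | ⟨-, k', hk', hv', hb'⟩
  · exact absurd z2 (S.big_z ho b2)
  exact (S.inv_C_aux ho hj 1 (Or.inr ⟨z2, k', hk', fun e' => hv' (by rw [e']; exact v2j), hv', hb'⟩)).1

include ho in
theorem inv_all (hn : 2 ≤ n) {g : G} (hg : g ∈ S.sub fun _ _ => True) : S.Inv o g := by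
  refine S.sub_induction (Q := S.Inv o)
    (Or.inl ⟨1, one_mem _, 1, one_ne_zero, 1, one_mem _, ?_⟩) (fun i j t y hij _ _ ih => ?_) hg
  · rw [show S.h 0 o (1 : K) = H (S.x 0 o) (S.x o 0) 1 from rfl, (S.rels (Ne.symm ho)).H_one]; simp
  by_cases hi : i = 0
  · subst hi; exact S.inv_row ho (Ne.symm hij) t ih
  by_cases hj : j = 0
  · subst hj; exact S.inv_C ho hn hi t ih
  exact S.inv_A ho hij hi hj t ih

end Step

theorem faithful [Finite K] : ∀ {n : ℕ} (S : Sys n N K G) {g : G}, g ∈ S.sub (fun _ _ => True) →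
    (∀ i, S.act g (S.e i) = S.e i) → g = 1 := by
  intro n
  induction n with
  | zero =>
    intro S g hg _
    have : S.sub (fun _ _ => True) = ⊥ := by
      rw [eq_bot_iff, sub, Subgroup.closure_le]
      rintro _ ⟨i, -⟩
      exact i.elim0
    rwa [this, Subgroup.mem_bot] at hg
  | succ n ih =>
    intro S g hg hfix
    rcases (show n = 0 ∨ n = 1 ∨ 2 ≤ n by omega) with rfl | rfl | hn
    · have : S.sub (fun _ _ => True) = ⊥ := by
        rw [eq_bot_iff, sub, Subgroup.closure_le]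
        rintro _ ⟨i, j, t, hij, -⟩
        exact absurd (Fin.ext (by omega)) hij
      rwa [this, Subgroup.mem_bot] at hg
    · have h01 : (0 : Fin 2) ≠ 1 := by decide
      refine S.pair_inj h01 ((?_ : S.sub _ ≤ gen (S.x 0 1) (S.x 1 0)) hg) ?_ ?_ ?_
      · rw [sub, Subgroup.closure_le]
        rintro _ ⟨i, j, t, hij, -, rfl⟩
        fin_cases i <;> fin_cases j <;> simp at hij ⊢ <;>
          [exact Subgroup.subset_closure (Or.inl ⟨t, rfl⟩); exact Subgroup.subset_closure (Or.inr ⟨t, rfl⟩)]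
      · rw [hfix]; exact S.e_ne (Ne.symm h01)
      · rw [hfix]; exact S.e_ne h01
      · rw [hfix]; exact S.e_self _
    set o : Fin (n + 1) := ⟨1, by omega⟩
    have ho : o ≠ 0 := by simp [o, Fin.ext_iff]
    rcases S.inv_all ho hn hg with h | ⟨hz, -⟩
    swap
    · rw [z, hfix, S.e_self] at hz; exact absurd hz one_ne_zero
    obtain ⟨c, hc, μ, hμ, q, hq, rfl⟩ := h
    have hμ1 : μ = 1 := by
      have := S.z_big ho hc hq hμ
      rw [z, hfix, S.e_self] at this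
      exact this.symm
    subst hμ1
    have h1 : S.h 0 o (1 : K) = 1 := (S.rels (Ne.symm ho)).H_one
    rw [h1, mul_one] at hfix ⊢
    have hc1 : c = 1 := by
      refine S.col_inj Finset.univ (S.sub_mono (fun i j _ hp => ⟨hp, Finset.mem_univ _⟩) hc) ?_
      have := hfix 0
      rwa [S.act_mul, S.act_Q hq] at this
    subst hc1
    rw [one_mul] at hfix ⊢
    obtain ⟨r, hr, a, ha, rfl⟩ := S.Q_split hq
    have hra : ∀ k, k ≠ 0 → S.act a (S.e k) = S.e k := by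
      intro k hk
      have e1 : S.act a (S.e k) = S.act r⁻¹ (S.e k) := by
        conv_rhs => rw [← hfix k, S.act_mul, ← S.act_mul r⁻¹, inv_mul_cancel, S.act_one]
      funext p
      by_cases hp : p = S.ι 0
      · subst hp
        rw [S.keep (fun i j _ hp e' => hp.1 (S.inj e')) ha]
      · rw [e1, S.keep (fun i j _ hi e' => hp (by rw [← e', show i = 0 from hi])) (inv_mem hr)]
    have haA : a = 1 := by
      refine ih S.tail ?_ (fun i => hra i.succ (Fin.succ_ne_zero i))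
      refine (?_ : S.sub Aset ≤ S.tail.sub fun _ _ => True) ha
      rw [sub, Subgroup.closure_le]
      rintro _ ⟨i, j, t, hij, ⟨hi, hj⟩, rfl⟩
      obtain ⟨i', rfl⟩ := Fin.exists_succ_eq.mpr hi
      obtain ⟨j', rfl⟩ := Fin.exists_succ_eq.mpr hj
      exact S.tail.x_mem (i := i') (j := j') (fun e' => hij (congrArg Fin.succ e')) trivial t
    subst haA
    rw [mul_one] at hfix ⊢
    exact S.row_inj Finset.univ (S.sub_mono (fun i j _ hp => ⟨hp, Finset.mem_univ _⟩) hr) (fun k _ => hfix k)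

end Sys

end CfsgLib.StSL
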