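/-
The Steinberg presentation of `SL_n` over a finite field, `n ≥ 3`.
-/
import Cfsg.Agent.Lib.StSL.Faithful
import Cfsg.Agent.Lib.SLPerfect

set_option autoImplicit false

namespace CfsgLib.StSL

open Matrix
open scoped commutatorElement
open CfsgLib.SL2St

/-- The relations between root elements of type `A_{n-1}`. -/
structure Raw {n : ℕ} {K G : Type*} [Field K] [Group G] (x : Fin n → Fin n → K → G) : Prop where
  add : ∀ {i j}, i ≠ j → ∀ a b, x i j (a + b) = x i j a * x i j b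
  comm : ∀ {i j k l}, i ≠ j → k ≠ l → j ≠ k → i ≠ l → ∀ t u, Commute (x i j t) (x k l u)
  mul : ∀ {i j k}, i ≠ j → j ≠ k → i ≠ k → ∀ t u, ⁅x i j t, x j k u⁆ = x i k (t * u)

namespace Raw

variable {n : ℕ} {K G : Type*} [Field K] [Group G] {x : Fin n → Fin n → K → G} (R : Raw x)
include R

theorem x_zero {i j : Fin n} (h : i ≠ j) : x i j 0 = 1 := by
  have := R.add h 0 0
  rw [add_zero] at this
  exact mul_left_cancel (this.symm.trans (mul_one _).symm)

theorem x_neg {i j : Fin n} (h : i ≠ j) (a : K) : x i j (-a) = (x i j a)⁻¹ :=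
  eq_inv_of_mul_eq_one_left (by rw [← R.add h, neg_add_cancel, R.x_zero h])

theorem conj_eq {i j k l : Fin n} (h1 : i ≠ j) (h2 : k ≠ l) (h3 : j ≠ k) (h4 : i ≠ l) (t u : K) :
    x i j t * x k l u * (x i j t)⁻¹ = x k l u := by
  rw [(R.comm h1 h2 h3 h4 t u).eq, mul_inv_cancel_right]

theorem conj_mul {i j k : Fin n} (h1 : i ≠ j) (h2 : j ≠ k) (h3 : i ≠ k) (t u : K) :
    x i j t * x j k u * (x i j t)⁻¹ = x i k (t * u) * x j k u := by
  rw [← R.mul h1 h2 h3, commutatorElement_def]; group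

theorem conj_mul' {i j k : Fin n} (h1 : i ≠ j) (h2 : j ≠ k) (h3 : i ≠ k) (t u : K) :
    x j k u * x i j t * (x j k u)⁻¹ = x i k (-(t * u)) * x i j t := by
  rw [R.x_neg h3, ← R.mul h1 h2 h3, commutatorElement_def]; group

theorem W_il {i j l : Fin n} (hij : i ≠ j) (hl1 : l ≠ i) (hl2 : l ≠ j) {s : K} (hs : s ≠ 0) (t : K) :
    W (x i j) (x j i) s * x i l t * (W (x i j) (x j i) s)⁻¹ = x j l (-(t * s⁻¹)) := by
  rw [Sys.conjW, R.conj_eq hij (Ne.symm hl1) hij.symm (Ne.symm hl1),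
    R.conj_mul hij.symm (Ne.symm hl1) (Ne.symm hl2),
    show x i j s * (x j l (-s⁻¹ * t) * x i l t) * (x i j s)⁻¹ =
      (x i j s * x j l (-s⁻¹ * t) * (x i j s)⁻¹) * (x i j s * x i l t * (x i j s)⁻¹) by group,
    R.conj_eq hij (Ne.symm hl1) hij.symm (Ne.symm hl1), R.conj_mul hij (Ne.symm hl2) (Ne.symm hl1),
    (R.comm (Ne.symm hl1) (Ne.symm hl2) hl2 (Ne.symm hl1) _ _).eq, mul_assoc (x j l _), ← R.add (Ne.symm hl1),
    show s * (-s⁻¹ * t) + t = 0 by field_simp; ring, R.x_zero (Ne.symm hl1), mul_one]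
  congr 1; ring

theorem W_lj {i j l : Fin n} (hij : i ≠ j) (hl1 : l ≠ i) (hl2 : l ≠ j) {s : K} (hs : s ≠ 0) (t : K) :
    W (x i j) (x j i) s * x l j t * (W (x i j) (x j i) s)⁻¹ = x l i (t * s⁻¹) := by
  rw [Sys.conjW, R.conj_eq hij hl2 (Ne.symm hl2) hij, R.conj_mul' hl2 hij.symm hl1,
    show x i j s * (x l i (-(t * -s⁻¹)) * x l j t) * (x i j s)⁻¹ =
      (x i j s * x l i (-(t * -s⁻¹)) * (x i j s)⁻¹) * (x i j s * x l j t * (x i j s)⁻¹) by group,
    R.conj_mul' hl1 hij hl2, R.conj_eq hij hl2 (Ne.symm hl2) hij,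
    (R.comm hl2 hl1 (Ne.symm hl2) hl1 _ _).eq, mul_assoc (x l i _), ← R.add hl2,
    show -(-(t * -s⁻¹) * s) + t = 0 by field_simp; ring, R.x_zero hl2, mul_one]
  congr 1; ring

theorem conj_self (hn : 3 ≤ n) {i j : Fin n} (hij : i ≠ j) {s : K} (hs : s ≠ 0) (u : K) :
    W (x i j) (x j i) s * x i j u * (W (x i j) (x j i) s)⁻¹ = x j i (-(s⁻¹ ^ 2 * u)) := by
  obtain ⟨l, hl1, hl2⟩ : ∃ l : Fin n, l ≠ i ∧ l ≠ j := by
    by_contra hcon
    push Not at hcon
    have h1 := Finset.card_le_card (fun l _ => show l ∈ ({i, j} : Finset (Fin n)) by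
      simp only [Finset.mem_insert, Finset.mem_singleton]
      exact or_iff_not_imp_left.mpr (hcon l) : (Finset.univ : Finset (Fin n)) ⊆ {i, j})
    have h2 : ({i, j} : Finset (Fin n)).card ≤ 2 := Finset.card_le_two
    simp at h1
    omega
  have e := R.mul (Ne.symm hl1) hl2 hij u 1
  rw [mul_one] at e
  rw [← e, show ∀ w a b : G, w * ⁅a, b⁆ * w⁻¹ = ⁅w * a * w⁻¹, w * b * w⁻¹⁆ from
    fun w a b => by simp only [commutatorElement_def]; group, R.W_il hij hl1 hl2 hs, R.W_lj hij hl1 hl2 hs,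
    R.mul (Ne.symm hl2) hl1 hij.symm]
  congr 1; ring

theorem rels (hn : 3 ≤ n) {i j : Fin n} (hij : i ≠ j) : Rels (x i j) (x j i) :=
  ⟨R.add hij, R.add hij.symm, fun _ u ht => R.conj_self hn hij ht u,
    fun _ u ht => R.conj_self hn hij.symm ht u⟩

end Raw

variable {n : ℕ} {K G : Type*} [Field K] [Group G]

/-- Steinberg's relations and a map to `SL_n` give an injective map on the generated subgroup. -/
theorem injective_of_raw [Finite K] (hn : 3 ≤ n) {x : Fin n → Fin n → K → G} (R : Raw x)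
    (φ : G →* Matrix.SpecialLinearGroup (Fin n) K)
    (hφ : ∀ {i j : Fin n} (h : i ≠ j) (t : K), φ (x i j t) = Matrix.SpecialLinearGroup.transvection h t)
    {g : G} (hg : g ∈ Subgroup.closure {g | ∃ i j t, i ≠ j ∧ x i j t = g}) (h1 : φ g = 1) : g = 1 := by
  let M : Matrix.SpecialLinearGroup (Fin n) K →* Matrix (Fin n) (Fin n) K :=
    { toFun := fun A => A.1, map_one' := rfl, map_mul' := fun _ _ => rfl }
  let S : Sys n (Fin n) K G :=
    { x := x, ι := id, φ := M.comp φ, inj := Function.injective_id, add := R.add, comm := R.comm, mul := R.mul,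
      rels := R.rels hn, φx := fun h t => by
        show (φ (x _ _ t)).1 = _
        rw [hφ h t]; rfl }
  refine S.faithful ((?_ : Subgroup.closure {g | ∃ i j t, i ≠ j ∧ x i j t = g} ≤ S.sub fun _ _ => True) hg) fun i => ?_
  · rw [Subgroup.closure_le]
    rintro _ ⟨i, j, t, hij, rfl⟩
    exact S.x_mem hij trivial t
  · show (φ g).1 *ᵥ S.e i = S.e i
    rw [h1]
    exact Matrix.one_mulVec _

variable (n K)

/-- The relators. -/
def stRels : Set (FreeGroup ({ij : Fin n × Fin n // ij.1 ≠ ij.2} × K)) :=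
  {g : FreeGroup ({ij : Fin n × Fin n // ij.1 ≠ ij.2} × K) | ∃ (a : {ij : Fin n × Fin n // ij.1 ≠ ij.2}) (t u : K),
      g = FreeGroup.of (a, t) * FreeGroup.of (a, u) * (FreeGroup.of (a, t + u))⁻¹} ∪
    {g | ∃ (a b : {ij : Fin n × Fin n // ij.1 ≠ ij.2}) (t u : K), a.1.1 ≠ b.1.2 ∧ a.1.2 ≠ b.1.1 ∧
      g = FreeGroup.of (a, t) * FreeGroup.of (b, u) * (FreeGroup.of (a, t))⁻¹ * (FreeGroup.of (b, u))⁻¹} ∪
    {g | ∃ (a b : {ij : Fin n × Fin n // ij.1 ≠ ij.2}) (h : a.1.1 ≠ b.1.2) (t u : K), a.1.2 = b.1.1 ∧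
      g = FreeGroup.of (a, t) * FreeGroup.of (b, u) * (FreeGroup.of (a, t))⁻¹ * (FreeGroup.of (b, u))⁻¹ *
        (FreeGroup.of (⟨(a.1.1, b.1.2), h⟩, t * u))⁻¹}

/-- The presented root elements. -/
def gens (i j : Fin n) (t : K) : PresentedGroup (stRels n K) :=
  if h : i ≠ j then PresentedGroup.of (⟨(i, j), h⟩, t) else 1

variable {n K}

theorem gens_val (a : {ij : Fin n × Fin n // ij.1 ≠ ij.2}) (t : K) :
    gens n K a.1.1 a.1.2 t = PresentedGroup.of (a, t) := dif_pos a.2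

theorem raw_gens : Raw (gens n K) := by
  refine ⟨fun {i j} h t u => ?_, fun {i j k l} h1 h2 h3 h4 t u => ?_, fun {i j k} h1 h2 h3 t u => ?_⟩
  · have e : PresentedGroup.mk (stRels n K) (FreeGroup.of (⟨(i, j), h⟩, t) * FreeGroup.of (⟨(i, j), h⟩, u) *
        (FreeGroup.of (⟨(i, j), h⟩, t + u))⁻¹) = 1 :=
      PresentedGroup.one_of_mem (Or.inl (Or.inl ⟨_, t, u, rfl⟩))
    rw [map_mul, map_mul, map_inv, mul_inv_eq_one] at e
    simp only [gens, dif_pos h]
    exact e.symm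
  · have e : PresentedGroup.mk (stRels n K) (FreeGroup.of (⟨(i, j), h1⟩, t) * FreeGroup.of (⟨(k, l), h2⟩, u) *
        (FreeGroup.of (⟨(i, j), h1⟩, t))⁻¹ * (FreeGroup.of (⟨(k, l), h2⟩, u))⁻¹) = 1 :=
      PresentedGroup.one_of_mem (Or.inl (Or.inr ⟨_, _, t, u, h4, h3, rfl⟩))
    simp only [gens, dif_pos h1, dif_pos h2]
    rw [map_mul, map_mul, map_mul, map_inv, map_inv] at e
    exact commutatorElement_eq_one_iff_commute.mp e
  · have e : PresentedGroup.mk (stRels n K) (FreeGroup.of (⟨(i, j), h1⟩, t) * FreeGroup.of (⟨(j, k), h2⟩, u) *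
        (FreeGroup.of (⟨(i, j), h1⟩, t))⁻¹ * (FreeGroup.of (⟨(j, k), h2⟩, u))⁻¹ *
        (FreeGroup.of (⟨(i, k), h3⟩, t * u))⁻¹) = 1 :=
      PresentedGroup.one_of_mem (Or.inr ⟨⟨(i, j), h1⟩, ⟨(j, k), h2⟩, h3, t, u, rfl, rfl⟩)
    simp only [gens, dif_pos h1, dif_pos h2, dif_pos h3]
    rw [map_mul, map_mul, map_mul, map_mul, map_inv, map_inv, map_inv, mul_inv_eq_one] at e
    exact e

theorem closure_transvection_eq_top {n : ℕ} (hn : 2 ≤ n) :
    Subgroup.closure {A : Matrix.SpecialLinearGroup (Fin n) K | ∃ (i j : Fin n) (h : i ≠ j) (t : K),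
      Matrix.SpecialLinearGroup.transvection h t = A} = ⊤ := by
  haveI : Nontrivial (Fin n) := Fin.nontrivial_iff_two_le.mpr hn
  rw [eq_top_iff]
  intro M _
  set T := Subgroup.closure {A : Matrix.SpecialLinearGroup (Fin n) K | ∃ (i j : Fin n) (h : i ≠ j) (t : K),
      Matrix.SpecialLinearGroup.transvection h t = A}
  have htr : ∀ (i j : Fin n) (h : i ≠ j) (a : K), Matrix.SpecialLinearGroup.transvection h a ∈ T :=
    fun i j h a => Subgroup.subset_closure ⟨i, j, h, a, rfl⟩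
  refine SpecialLinearGroup.diagonal_transvection_induction' (fun A => A ∈ T) M
    (fun i j hij c hc => ?_) htr (fun A B => mul_mem)
  rw [CfsgLib.SLPerfect.diag2n_eq hij hc]
  exact mul_mem (mul_mem (mul_mem (mul_mem (htr _ _ _ _) (htr _ _ _ _)) (htr _ _ _ _)) (htr _ _ _ _))
    (htr _ _ _ _)

theorem exists_presentation [Finite K] (hn : 3 ≤ n) :
    ∃ e : PresentedGroup (stRels n K) ≃* Matrix.SpecialLinearGroup (Fin n) K,
      ∀ (a : {ij : Fin n × Fin n // ij.1 ≠ ij.2}) (t : K),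
        e (PresentedGroup.of (a, t)) = Matrix.SpecialLinearGroup.transvection a.2 t := by
  let f : {ij : Fin n × Fin n // ij.1 ≠ ij.2} × K → Matrix.SpecialLinearGroup (Fin n) K :=
    fun p => Matrix.SpecialLinearGroup.transvection p.1.2 p.2
  have hcomm : ∀ {i j k l : Fin n} (h1 : i ≠ j) (h2 : k ≠ l), j ≠ k → i ≠ l → ∀ t u : K,
      Commute (Matrix.SpecialLinearGroup.transvection h1 t) (Matrix.SpecialLinearGroup.transvection h2 u) := by
    intro i j k l h1 h2 h3 h4 t u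
    apply Subtype.ext
    show (1 + single i j t) * (1 + single k l u) = (1 + single k l u) * (1 + single i j t)
    simp only [mul_add, add_mul, mul_one, one_mul, single_mul_single_of_ne _ _ _ _ h3,
      single_mul_single_of_ne _ _ _ _ (Ne.symm h4)]
    abel
  have hrels : ∀ g ∈ stRels n K, FreeGroup.lift f g = 1 := by
    rintro g ((⟨a, t, u, rfl⟩ | ⟨a, b, t, u, h1, h2, rfl⟩) | ⟨a, b, h, t, u, he, rfl⟩)
    · simp only [map_mul, map_inv, FreeGroup.lift_apply_of, f]
      rw [mul_inv_eq_one]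
      apply Subtype.ext
      show (1 + single a.1.1 a.1.2 t) * (1 + single a.1.1 a.1.2 u) = 1 + single a.1.1 a.1.2 (t + u)
      simp only [mul_add, add_mul, mul_one, one_mul, single_mul_single_of_ne _ _ _ _ (Ne.symm a.2), single_add]
      abel
    · simp only [map_mul, map_inv, FreeGroup.lift_apply_of, f]
      exact commutatorElement_eq_one_iff_commute.mpr (hcomm a.2 b.2 h2 h1 t u)
    · simp only [map_mul, map_inv, FreeGroup.lift_apply_of, f]
      rw [mul_inv_eq_one]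
      obtain ⟨⟨i, j⟩, hij⟩ := a
      obtain ⟨⟨j', k⟩, hjk⟩ := b
      obtain rfl : j = j' := he
      exact CfsgLib.SLPerfect.comm_transvection hij hjk h t u
  let φ := PresentedGroup.toGroup hrels
  have hφ : ∀ {i j : Fin n} (h : i ≠ j) (t : K), φ (gens n K i j t) = Matrix.SpecialLinearGroup.transvection h t := by
    intro i j h t
    simp only [gens, dif_pos h]
    exact PresentedGroup.toGroup.of _
  have hinj : Function.Injective φ := by
    rw [injective_iff_map_eq_one]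
    refine fun g hg => injective_of_raw hn raw_gens φ hφ ?_ hg
    have hg' : g ∈ Subgroup.closure (Set.range (PresentedGroup.of (rels := stRels n K))) := by
      rw [PresentedGroup.closure_range_of]; trivial
    refine Subgroup.closure_mono ?_ hg'
    rintro _ ⟨⟨a, t⟩, rfl⟩
    exact ⟨a.1.1, a.1.2, t, a.2, gens_val a t⟩
  have hsurj : Function.Surjective φ := by
    rw [← MonoidHom.range_eq_top, eq_top_iff, ← closure_transvection_eq_top (K := K) (n := n) (by omega),
      Subgroup.closure_le]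
    rintro _ ⟨i, j, h, t, rfl⟩
    exact ⟨_, hφ h t⟩
  exact ⟨MulEquiv.ofBijective φ ⟨hinj, hsurj⟩, fun a t => PresentedGroup.toGroup.of (h := hrels)⟩

end CfsgLib.StSL
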