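/-
Multipliers of groups whose central extensions split, and of their central quotients.
-/
import Mathlib
import Cfsg.Prelude.Def_KGroupFacts
import Cfsg.Agent.Lib.SchurSmall

set_option autoImplicit false

namespace CfsgLib.StSL

open scoped commutatorElement

universe u v

/-- Commutators depend only on the classes modulo a central kernel. -/
theorem comm_congr {E G : Type*} [Group E] [Group G] {π : E →* G} (hc : π.ker ≤ Subgroup.center E) {a a' b b' : E}
    (ha : π a = π a') (hb : π b = π b') : ⁅a, b⁆ = ⁅a', b'⁆ := by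
  obtain ⟨u, hu, rfl⟩ : ∃ u, π u = 1 ∧ a = a' * u :=
    ⟨a'⁻¹ * a, by rw [map_mul, map_inv, ha, inv_mul_cancel], (mul_inv_cancel_left a' a).symm⟩
  obtain ⟨v, hv, rfl⟩ : ∃ v, π v = 1 ∧ b = b' * v :=
    ⟨b'⁻¹ * b, by rw [map_mul, map_inv, hb, inv_mul_cancel], (mul_inv_cancel_left b' b).symm⟩
  have cu : ∀ g, Commute g u := fun g => Subgroup.mem_center_iff.mp (hc hu) g
  have cv : ∀ g, Commute g v := fun g => Subgroup.mem_center_iff.mp (hc hv) g
  calc ⁅a' * u, b' * v⁆ = a' * (u * (b' * v)) * u⁻¹ * a'⁻¹ * (v⁻¹ * b'⁻¹) := by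
        simp only [commutatorElement_def]; group
    _ = a' * ((b' * v) * u) * u⁻¹ * a'⁻¹ * (v⁻¹ * b'⁻¹) := by rw [(cu (b' * v)).eq]
    _ = a' * b' * (v * a'⁻¹) * v⁻¹ * b'⁻¹ := by group
    _ = a' * b' * (a'⁻¹ * v) * v⁻¹ * b'⁻¹ := by rw [(cv a'⁻¹).eq]
    _ = ⁅a', b'⁆ := by simp only [commutatorElement_def]; group

/-- Every central extension splits. -/
def SplitG (G : Type u) [Group G] : Prop :=
  ∀ (E : Type u) [Group E] (π : E →* G), Function.Surjective π → π.ker ≤ Subgroup.center E →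
    ∃ σ : G →* E, π.comp σ = MonoidHom.id G

theorem splitG_of_subgroup {G : Type u} [Group G]
    (h : ∀ (E : Type u) [Group E] (π : E →* G), Function.Surjective π → π.ker ≤ Subgroup.center E →
      ∃ H : Subgroup E, (∀ g ∈ H, π g = 1 → g = 1) ∧ H.map π = ⊤) : SplitG G := by
  intro E _ π hπ hc
  obtain ⟨H, hinj, hsurj⟩ := h E π hπ hc
  let e : H ≃* G := MulEquiv.ofBijective (π.comp H.subtype)
    ⟨(injective_iff_map_eq_one _).mpr fun g hg => Subtype.ext (hinj g.1 g.2 hg), fun y => by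
      obtain ⟨x, hx, rfl⟩ : y ∈ H.map π := by rw [hsurj]; trivial
      exact ⟨⟨x, hx⟩, rfl⟩⟩
  exact ⟨H.subtype.comp e.symm.toMonoidHom, MonoidHom.ext fun y => e.apply_symm_apply y⟩

theorem ker_eq_bot_of_split {G : Type u} [Group G] (h : SplitG G) {Γ : Type u} [Group Γ] {σ : Γ →* G}
    (hσ : Cfsg.IsStemExtension σ) : σ.ker = ⊥ := by
  obtain ⟨hs, hc, hcomm⟩ := hσ
  obtain ⟨τ, hτ⟩ := h Γ σ hs hc
  rw [Subgroup.eq_bot_iff_forall]
  intro g hg
  have hle : commutator Γ ≤ τ.range := by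
    rw [commutator_def, Subgroup.commutator_le]
    intro a _ b _
    refine ⟨⁅σ a, σ b⁆, ?_⟩
    rw [map_commutatorElement]
    exact comm_congr hc (DFunLike.congr_fun hτ (σ a)) (DFunLike.congr_fun hτ (σ b))
  obtain ⟨x, rfl⟩ := hle (hcomm hg)
  have e : x = 1 := (DFunLike.congr_fun hτ x).symm.trans hg
  rw [e, map_one]

theorem trivial_of_split {G : Type u} [Group G] [Finite G] (h : SplitG G) :
    Cfsg.HasCyclicSchurMultiplier G 1 :=
  CfsgLib.SchurSmall.trivial_multiplier fun _Γ _ _ _σ hσ => ker_eq_bot_of_split h hσ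

/-- The multiplier of a central quotient of a perfect group whose central extensions split. -/
theorem multiplier_quotient {G Q : Type u} [Group G] [Finite G] [Group Q] (h : SplitG G)
    (hperf : commutator G = ⊤) (θ : G →* Q) (hθ : Function.Surjective θ) (hθc : θ.ker ≤ Subgroup.center G)
    {A : Type v} [CommGroup A] (e : Nonempty (θ.ker ≃* A)) : Cfsg.HasSchurMultiplier Q A := by
  refine ⟨⟨G, inferInstance, inferInstance, θ, ⟨hθ, hθc, by rw [hperf]; exact le_top⟩, e⟩, fun Γ _ _ σ hσ => ?_⟩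
  obtain ⟨hs, hc, hcomm⟩ := hσ
  let S : Subgroup (Γ × G) := (σ.comp (MonoidHom.fst _ _)).eqLocus (θ.comp (MonoidHom.snd _ _))
  let q : S →* G := (MonoidHom.snd _ _).comp S.subtype
  have hq : Function.Surjective q := fun d => by
    obtain ⟨g, hg⟩ := hs (θ d)
    exact ⟨⟨(g, d), hg⟩, rfl⟩
  have hqc : q.ker ≤ Subgroup.center S := by
    rintro ⟨⟨g, d⟩, hm⟩ hk
    have hd : d = 1 := hk
    subst hd
    have hg : g ∈ Subgroup.center Γ := hc ((show σ g = θ 1 from hm).trans (map_one θ))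
    rw [Subgroup.mem_center_iff]
    rintro ⟨⟨g', d'⟩, hm'⟩
    exact Subtype.ext (Prod.ext (Subgroup.mem_center_iff.mp hg g') (by simp))
  obtain ⟨s, hs'⟩ := h S q hq hqc
  let τ : G →* Γ := ((MonoidHom.fst _ _).comp S.subtype).comp s
  have hτ : ∀ d, σ (τ d) = θ d := fun d => by
    have h1 : σ (s d).1.1 = θ (s d).1.2 := (s d).2
    rwa [show (s d).1.2 = d from DFunLike.congr_fun hs' d] at h1
  have hle : commutator Γ ≤ τ.range := by
    rw [commutator_def, Subgroup.commutator_le]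
    intro a _ b _
    obtain ⟨a', ha⟩ := hθ (σ a)
    obtain ⟨b', hb⟩ := hθ (σ b)
    refine ⟨⁅a', b'⁆, ?_⟩
    rw [map_commutatorElement]
    exact comm_congr hc ((hτ a').trans ha) ((hτ b').trans hb)
  obtain ⟨e⟩ := e
  let f : θ.ker →* σ.ker := (τ.comp θ.ker.subtype).codRestrict _ fun x => by
    rw [MonoidHom.mem_ker]
    exact (hτ x.1).trans x.2
  refine ⟨f.comp e.symm.toMonoidHom, fun y => ?_⟩
  obtain ⟨x, hx⟩ := hle (hcomm y.2)
  have hxk : θ x = 1 := by rw [← hτ x, hx]; exact y.2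
  exact ⟨e ⟨x, hxk⟩, Subtype.ext (by simpa [f] using hx)⟩

end CfsgLib.StSL
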