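/-
Central extensions of `SL₂(q)` split for `q ≥ 5`, `q ≠ 9`.
-/
import Cfsg.Agent.Lib.SL2Steinberg
import Cfsg.Agent.Lib.StSL.Presentation
import Cfsg.Agent.Lib.StSL.Split

set_option autoImplicit false

namespace CfsgLib.StSL

open Matrix
open scoped commutatorElement
open CfsgLib.SL2St

universe u

section Scalar

variable {F : Type*} [Field F]

theorem exists_good [Fintype F] (h4 : 4 < Fintype.card F) (h : ¬ (Fintype.card F).Prime) (h9 : Fintype.card F ≠ 9) :
    ∃ a c : F, a ≠ 0 ∧ c ≠ 0 ∧ a ^ 2 + 1 = c ^ 2 ∧ a ^ 4 + a ^ 2 + 1 ≠ 0 := by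
  classical
  obtain ⟨p, hp⟩ := CharP.exists F
  obtain ⟨k, hprime, hcard⟩ := FiniteField.card F p
  by_cases h2 : p = 2
  · subst h2
    haveI := hp
    have hR : ∃ s : F, (Polynomial.X * (Polynomial.X + 1) * (Polynomial.X ^ 2 + Polynomial.X + 1) : Polynomial F).eval s ≠ 0 := by
      set R : Polynomial F := Polynomial.X * (Polynomial.X + 1) * (Polynomial.X ^ 2 + Polynomial.X + 1)
      have hd : R.natDegree = 4 := by simp only [R]; compute_degree!
      refine Polynomial.exists_eval_ne_zero_of_natDegree_lt_card R (fun e => by simp [e] at hd) ?_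
      rw [hd, Cardinal.mk_fintype]
      exact_mod_cast h4
    obtain ⟨s, hs⟩ := hR
    simp only [Polynomial.eval_mul, Polynomial.eval_add, Polynomial.eval_X, Polynomial.eval_one,
      Polynomial.eval_pow, mul_ne_zero_iff] at hs
    obtain ⟨⟨hs0, hs1⟩, hs2⟩ := hs
    obtain ⟨a, ha⟩ := FiniteField.isSquare_of_char_two (F := F) (ringChar.eq F 2) s
    obtain ⟨c, hc⟩ := FiniteField.isSquare_of_char_two (F := F) (ringChar.eq F 2) (s + 1)
    refine ⟨a, c, fun e => hs0 (by rw [ha, e, mul_zero]), fun e => hs1 (by rw [hc, e, mul_zero]), ?_, ?_⟩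
    · rw [sq, ← ha, hc, sq]
    · rw [show a ^ 4 = (a * a) ^ 2 by ring, sq a, ← ha]; exact hs2
  · have h25 : 13 < Fintype.card F := by
      have hp3 : 3 ≤ p := by have := hprime.two_le; omega
      have hk : 2 ≤ (k : ℕ) := by
        by_contra hk
        have : (k : ℕ) = 1 := by have := k.pos; omega
        rw [this, pow_one] at hcard
        exact h (hcard ▸ hprime)
      rw [hcard]
      by_cases hk2 : (k : ℕ) = 2
      · have hp5 : 5 ≤ p := by
          by_contra hlt
          have : p = 3 ∨ p = 4 := by omega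
          rcases this with rfl | rfl
          · rw [hk2] at hcard; exact h9 hcard
          · exact absurd hprime (by decide)
        rw [hk2]; nlinarith
      · calc 13 < 3 ^ 3 := by norm_num
          _ ≤ p ^ 3 := Nat.pow_le_pow_left hp3 3
          _ ≤ p ^ (k : ℕ) := Nat.pow_le_pow_right (by omega) (by omega)
    have hne2 : (2 : F) ≠ 0 := by
      haveI := hp
      intro e
      have : p ∣ 2 := (CharP.cast_eq_zero_iff F p 2).mp (by exact_mod_cast e)
      exact h2 ((Nat.prime_dvd_prime_iff_eq hprime Nat.prime_two).mp this)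
    set R : Polynomial F := Polynomial.X * (Polynomial.X ^ 4 - 1) *
      ((Polynomial.X ^ 2 - 1) ^ 4 + Polynomial.C 4 * Polynomial.X ^ 2 * (Polynomial.X ^ 2 - 1) ^ 2 +
        Polynomial.C 16 * Polynomial.X ^ 4) with hR
    have hd : R.natDegree = 13 := by simp only [hR]; compute_degree!
    obtain ⟨m, hm⟩ : ∃ m : F, R.eval m ≠ 0 := by
      refine Polynomial.exists_eval_ne_zero_of_natDegree_lt_card R (fun e => by simp [e] at hd) ?_
      rw [hd, Cardinal.mk_fintype]
      exact_mod_cast h25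
    simp only [hR, Polynomial.eval_mul, Polynomial.eval_add, Polynomial.eval_sub, Polynomial.eval_X,
      Polynomial.eval_one, Polynomial.eval_pow, Polynomial.eval_C, mul_ne_zero_iff] at hm
    obtain ⟨⟨hm0, hm1⟩, hm2⟩ := hm
    refine ⟨(m - m⁻¹) / 2, (m + m⁻¹) / 2, ?_, ?_, ?_, ?_⟩
    · intro e
      apply hm1
      have : m * m = 1 := by
        rw [div_eq_zero_iff] at e
        have e' := e.resolve_right hne2
        field_simp at e'
        linear_combination e'
      linear_combination (m * m + 1) * this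
    · intro e
      apply hm1
      have : m * m = -1 := by
        rw [div_eq_zero_iff] at e
        have e' := e.resolve_right hne2
        field_simp at e'
        linear_combination e'
      linear_combination (m * m - 1) * this
    · have h4' : (4 : F) ≠ 0 := by
        rw [show (4 : F) = 2 * 2 by norm_num]; exact mul_ne_zero hne2 hne2
      field_simp; ring
    · intro e
      apply hm2
      field_simp at e
      linear_combination e

end Scalar

section Extension

variable {F : Type*} [Field F] [Fintype F] {E : Type*} [Group E] {π : E →* Matrix.SpecialLinearGroup (Fin 2) F}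

/-- Preimages of a root subgroup commute. -/
theorem root_comm (h4 : 4 ≤ Fintype.card F) (hne4 : Fintype.card F ≠ 4) (h9 : Fintype.card F ≠ 9)
    (hπ : Function.Surjective π) (hc : π.ker ≤ Subgroup.center E) (u : F → Matrix.SpecialLinearGroup (Fin 2) F)
    (hadd : ∀ a b, u (a + b) = u a * u b)
    (htorus : ∀ a : F, a ≠ 0 → ∃ d, ∀ t, d * u t * d⁻¹ = u (a ^ 2 * t)) (g p : E) (t s : F)
    (hg : π g = u t) (hp : π p = u s) : Commute g p := by
  classical
  set ℓ : F → E := fun t => Function.surjInv hπ (u t)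
  have πℓ : ∀ t, π (ℓ t) = u t := fun t => Function.surjInv_eq hπ _
  have hu0 : u 0 = 1 := by
    have := hadd 0 0
    rw [add_zero] at this
    exact mul_left_cancel (this.symm.trans (mul_one _).symm)
  rw [← commutatorElement_eq_one_iff_commute, comm_congr hc (hg.trans (πℓ t).symm) (hp.trans (πℓ s).symm)]
  by_cases hprime : (Fintype.card F).Prime
  · haveI : Fact (Fintype.card F).Prime := ⟨hprime⟩
    haveI : CharP F (Fintype.card F) := charP_of_card_eq_prime rfl
    have hnat : ∀ t : F, ∃ k : ℕ, (k : F) = t := fun t => by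
      obtain ⟨x, hx⟩ := (ZMod.castHom_bijective F (n := Fintype.card F) rfl).2 t
      exact ⟨x.val, by rw [← hx, ZMod.castHom_apply, ZMod.cast_eq_val]⟩
    have hpow : ∀ k : ℕ, u (k : F) = π (ℓ 1 ^ k) := by
      intro k
      induction k with
      | zero => rw [Nat.cast_zero, hu0, pow_zero, map_one]
      | succ k ih => rw [Nat.cast_succ, hadd, ih, pow_succ, map_mul, πℓ]
    obtain ⟨k, rfl⟩ := hnat t
    obtain ⟨l, rfl⟩ := hnat s
    rw [comm_congr hc ((πℓ _).trans (hpow k)) ((πℓ _).trans (hpow l)), commutatorElement_eq_one_iff_commute]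
    exact Commute.pow_pow_self _ k l
  set f : F → F → E := fun t s => ⁅ℓ t, ℓ s⁆ with hf
  have hcm : ∀ t s, Commute (π (ℓ t)) (π (ℓ s)) := fun t s => by
    rw [πℓ, πℓ, Commute, SemiconjBy, ← hadd, ← hadd, add_comm]
  have hker : ∀ t s, f t s ∈ π.ker := fun t s => by
    rw [MonoidHom.mem_ker, hf, map_commutatorElement, commutatorElement_eq_one_iff_commute]
    exact hcm t s
  have fc : ∀ t s x, Commute x (f t s) := fun t s x => Subgroup.mem_center_iff.mp (hc (hker t s)) x
  have fl : ∀ a b s, f (a + b) s = f a s * f b s := by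
    intro a b s
    show ⁅ℓ (a + b), ℓ s⁆ = f a s * f b s
    rw [comm_congr hc (show π (ℓ (a + b)) = π (ℓ a * ℓ b) by rw [map_mul, πℓ, πℓ, πℓ, hadd]) rfl,
      show ⁅ℓ a * ℓ b, ℓ s⁆ = ℓ a * f b s * (ℓ a)⁻¹ * f a s by simp only [hf, commutatorElement_def]; group,
      (fc b s (ℓ a)).eq, mul_inv_cancel_right, (fc a s _).eq]
  have fr : ∀ t a b, f t (a + b) = f t a * f t b := by
    intro t a b
    show ⁅ℓ t, ℓ (a + b)⁆ = f t a * f t b
    rw [comm_congr hc rfl (show π (ℓ (a + b)) = π (ℓ a * ℓ b) by rw [map_mul, πℓ, πℓ, πℓ, hadd]),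
      show ⁅ℓ t, ℓ a * ℓ b⁆ = f t a * (ℓ a * f t b * (ℓ a)⁻¹) by simp only [hf, commutatorElement_def]; group,
      (fc t b (ℓ a)).eq, mul_inv_cancel_right]
  have finv : ∀ a : F, a ≠ 0 → ∀ t s, f (a ^ 2 * t) (a ^ 2 * s) = f t s := by
    intro a ha t s
    obtain ⟨d, hd⟩ := htorus a ha
    obtain ⟨g, hg⟩ := hπ d
    rw [show f t s = g * f t s * g⁻¹ by rw [(fc t s g).eq, mul_inv_cancel_right]]
    show ⁅ℓ _, ℓ _⁆ = g * ⁅ℓ t, ℓ s⁆ * g⁻¹
    rw [show g * ⁅ℓ t, ℓ s⁆ * g⁻¹ = ⁅g * ℓ t * g⁻¹, g * ℓ s * g⁻¹⁆ by simp only [commutatorElement_def]; group]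
    refine comm_congr hc ?_ ?_ <;> rw [map_mul, map_mul, map_inv, hg, πℓ, πℓ, hd]
  have fmove : ∀ a : F, a ≠ 0 → ∀ t s, f (a ^ 2 * t) s = f t ((a ^ 2)⁻¹ * s) := by
    intro a ha t s
    have := finv a ha t ((a ^ 2)⁻¹ * s)
    rwa [← mul_assoc, mul_inv_cancel₀ (pow_ne_zero 2 ha), one_mul] at this
  obtain ⟨a, c, ha, hc0, hac, hne⟩ := exists_good (by omega) hprime h9
  set w := (a ^ 2)⁻¹ + 1 - (c ^ 2)⁻¹ with hw
  have hw0 : w ≠ 0 := by
    intro e
    apply hne
    rw [hw] at e
    field_simp at e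
    linear_combination e + (1 + a ^ 2) * hac
  have key : ∀ t v, f t (w * v) = 1 := by
    intro t v
    have h1 : f (c ^ 2 * t) v = f t (((a ^ 2)⁻¹ + 1) * v) := by
      rw [← hac, add_mul, one_mul, fl, fmove a ha, ← fr, add_mul, one_mul]
    rw [fmove c hc0] at h1
    have h2 : f t (((a ^ 2)⁻¹ + 1) * v) = f t ((c ^ 2)⁻¹ * v) * f t (w * v) := by
      rw [← fr]; congr 1; rw [hw]; ring
    rw [← h1] at h2
    exact left_eq_mul.mp h2
  have := key t (w⁻¹ * s)
  rwa [← mul_assoc, mul_inv_cancel₀ hw0, one_mul] at this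

/-- The upper unipotent element. -/
def eu (t : F) : Matrix.SpecialLinearGroup (Fin 2) F :=
  Matrix.SpecialLinearGroup.transvection (show (0 : Fin 2) ≠ 1 by decide) t

/-- The lower unipotent element. -/
def el (t : F) : Matrix.SpecialLinearGroup (Fin 2) F :=
  Matrix.SpecialLinearGroup.transvection (show (1 : Fin 2) ≠ 0 by decide) t

/-- The diagonal element. -/
noncomputable def ed (c : F) (hc : c ≠ 0) : Matrix.SpecialLinearGroup (Fin 2) F :=
  Matrix.SpecialLinearGroup.diag2n (show (0 : Fin 2) ≠ 1 by decide) c hc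

theorem eu_val (t : F) : (eu t).1 = !![1, t; 0, 1] := by
  show (1 + Matrix.single (0 : Fin 2) 1 t) = _
  ext i j; fin_cases i <;> fin_cases j <;> simp [Matrix.one_apply, Matrix.single_apply]

theorem el_val (t : F) : (el t).1 = !![1, 0; t, 1] := by
  show (1 + Matrix.single (1 : Fin 2) 0 t) = _
  ext i j; fin_cases i <;> fin_cases j <;> simp [Matrix.one_apply, Matrix.single_apply]

theorem ed_val (c : F) (hc : c ≠ 0) : (ed c hc).1 = !![c, 0; 0, c⁻¹] := by
  show (Matrix.SpecialLinearGroup.diag2n _ c hc : Matrix.SpecialLinearGroup (Fin 2) F).1 = _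
  rw [Matrix.SpecialLinearGroup.diag2n_coe]
  ext i j; fin_cases i <;> fin_cases j <;> simp

theorem exists_lift (h4 : 4 ≤ Fintype.card F) (hne4 : Fintype.card F ≠ 4) (h9 : Fintype.card F ≠ 9)
    (hπ : Function.Surjective π) (hc : π.ker ≤ Subgroup.center E) :
    ∃ H : Subgroup E, (∀ g ∈ H, π g = 1 → g = 1) ∧ H.map π = ⊤ := by
  classical
  obtain ⟨c, hc0, hc2⟩ : ∃ c : F, c ≠ 0 ∧ c ^ 2 - 1 ≠ 0 := by
    by_contra hcon
    push Not at hcon
    have h1 := Finset.card_le_card (fun x _ => show x ∈ ({0, 1, -1} : Finset F) by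
      simp only [Finset.mem_insert, Finset.mem_singleton]
      by_cases hx : x = 0
      · exact Or.inl hx
      · exact Or.inr (sq_eq_one_iff.mp (sub_eq_zero.mp (hcon x hx))) : (Finset.univ : Finset F) ⊆ {0, 1, -1})
    have h2 : ({0, 1, -1} : Finset F).card ≤ 3 := Finset.card_le_three
    rw [Finset.card_univ] at h1
    omega
  have mulv : ∀ A B : Matrix.SpecialLinearGroup (Fin 2) F, (A * B).1 = A.1 * B.1 := fun _ _ => rfl
  have uadd : ∀ a b : F, eu (a + b) = eu a * eu b := fun a b => Subtype.ext (by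
    rw [mulv, eu_val, eu_val, eu_val]; simp [add_comm])
  have ladd : ∀ a b : F, el (a + b) = el a * el b := fun a b => Subtype.ext (by
    rw [mulv, el_val, el_val, el_val]; simp [add_comm])
  have du : ∀ (a : F) (ha : a ≠ 0) t, ed a ha * eu t * (ed a ha)⁻¹ = eu (a ^ 2 * t) := fun a ha t => by
    rw [mul_inv_eq_iff_eq_mul]
    refine Subtype.ext ?_
    rw [mulv, mulv, ed_val, eu_val, eu_val]
    simp only [Matrix.mul_fin_two]
    ext i j; fin_cases i <;> fin_cases j <;> simp <;> field_simp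
  have dl : ∀ (a : F) (ha : a ≠ 0) t, ed a⁻¹ (inv_ne_zero ha) * el t * (ed a⁻¹ (inv_ne_zero ha))⁻¹ = el (a ^ 2 * t) := fun a ha t => by
    rw [mul_inv_eq_iff_eq_mul]
    refine Subtype.ext ?_
    rw [mulv, mulv, ed_val, el_val, el_val]
    simp only [Matrix.mul_fin_two, inv_inv]
    ext i j; fin_cases i <;> fin_cases j <;> simp <;> field_simp
  set lift : Matrix.SpecialLinearGroup (Fin 2) F → E := Function.surjInv hπ
  have πlift : ∀ s, π (lift s) = s := Function.surjInv_eq hπ
  set x : F → E := fun t => ⁅lift (ed c hc0), lift (eu (t / (c ^ 2 - 1)))⁆ with hx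
  set y : F → E := fun t => ⁅lift (ed c⁻¹ (inv_ne_zero hc0)), lift (el (t / (c ^ 2 - 1)))⁆ with hy
  have neg_of_add : ∀ (u : F → Matrix.SpecialLinearGroup (Fin 2) F), (∀ a b, u (a + b) = u a * u b) →
      ∀ t, (u t)⁻¹ = u (-t) := by
    intro u hu t
    have h0 : u 0 = 1 := by
      have := hu 0 0
      rw [add_zero] at this
      exact mul_left_cancel (this.symm.trans (mul_one _).symm)
    exact inv_eq_of_mul_eq_one_right (by rw [← hu, add_neg_cancel, h0])
  have πx : ∀ t, π (x t) = eu t := fun t => by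
    rw [hx, map_commutatorElement, πlift, πlift, commutatorElement_def, du, neg_of_add eu uadd, ← uadd]
    congr 1; field_simp; ring
  have πy : ∀ t, π (y t) = el t := fun t => by
    rw [hy, map_commutatorElement, πlift, πlift, commutatorElement_def, dl c hc0, neg_of_add el ladd, ← ladd]
    congr 1; field_simp; ring
  have addgen : ∀ (u : F → Matrix.SpecialLinearGroup (Fin 2) F) (d : E) (z : F → E),
      (∀ a b, u (a + b) = u a * u b) → (∀ t, z t = ⁅d, lift (u (t / (c ^ 2 - 1)))⁆) → (∀ t, π (z t) = u t) →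
      (∀ g p t s, π g = u t → π p = u s → Commute g p) → ∀ a b, z (a + b) = z a * z b := by
    intro u d z hu hz πz hcomm a b
    set Y := fun t => lift (u (t / (c ^ 2 - 1)))
    rw [hz (a + b), comm_congr hc rfl (show π (Y (a + b)) = π (Y a * Y b) by
      simp only [Y]; rw [map_mul, πlift, πlift, πlift, ← hu, add_div]),
      show ⁅d, Y a * Y b⁆ = ⁅d, Y a⁆ * (Y a * ⁅d, Y b⁆ * (Y a)⁻¹) by simp only [commutatorElement_def]; group,
      ← hz a, ← hz b, (hcomm (Y a) (z b) _ _ (πlift _) (πz b)).eq, mul_inv_cancel_right]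
  have addx : ∀ a b, x (a + b) = x a * x b := addgen eu _ x uadd (fun t => rfl) πx
    (root_comm h4 hne4 h9 hπ hc eu uadd fun a ha => ⟨ed a ha, du a ha⟩)
  have addy : ∀ a b, y (a + b) = y a * y b := addgen el _ y ladd (fun t => rfl) πy
    (root_comm h4 hne4 h9 hπ hc el ladd fun a ha => ⟨ed a⁻¹ (inv_ne_zero ha), dl a ha⟩)
  have hW : ∀ t : F, t ≠ 0 → (π (W x y t)).1 = !![0, t; -t⁻¹, 0] := fun t ht => by
    rw [W, map_mul, map_mul, πx, πy, mulv, mulv, eu_val, el_val]
    simp only [Matrix.mul_fin_two]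
    ext i j; fin_cases i <;> fin_cases j <;> simp <;> field_simp <;> ring_nf <;> simp
  have hW' : ∀ t : F, t ≠ 0 → (π (W y x t)).1 = !![0, -t⁻¹; t, 0] := fun t ht => by
    rw [W, map_mul, map_mul, πx, πy, mulv, mulv, eu_val, el_val]
    simp only [Matrix.mul_fin_two]
    ext i j; fin_cases i <;> fin_cases j <;> simp <;> field_simp <;> ring_nf <;> simp
  have cx : ∀ t u, t ≠ 0 → W x y t * x u * (W x y t)⁻¹ = y (-(t⁻¹ ^ 2 * u)) := by
    intro t u ht
    show _ * ⁅_, _⁆ * _ = ⁅_, _⁆
    rw [show ∀ g a b : E, g * ⁅a, b⁆ * g⁻¹ = ⁅g * a * g⁻¹, g * b * g⁻¹⁆ from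
      fun g a b => by simp only [commutatorElement_def]; group]
    refine comm_congr hc ?_ ?_ <;>
    · rw [map_mul, map_mul, map_inv, πlift, πlift, mul_inv_eq_iff_eq_mul]
      refine Subtype.ext ?_
      rw [mulv, mulv, hW t ht]
      simp only [ed_val, eu_val, el_val, Matrix.mul_fin_two, inv_inv]
      ext i j; fin_cases i <;> fin_cases j <;> simp <;> field_simp
  have cy : ∀ t u, t ≠ 0 → W y x t * y u * (W y x t)⁻¹ = x (-(t⁻¹ ^ 2 * u)) := by
    intro t u ht
    show _ * ⁅_, _⁆ * _ = ⁅_, _⁆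
    rw [show ∀ g a b : E, g * ⁅a, b⁆ * g⁻¹ = ⁅g * a * g⁻¹, g * b * g⁻¹⁆ from
      fun g a b => by simp only [commutatorElement_def]; group]
    refine comm_congr hc ?_ ?_ <;>
    · rw [map_mul, map_mul, map_inv, πlift, πlift, mul_inv_eq_iff_eq_mul]
      refine Subtype.ext ?_
      rw [mulv, mulv, hW' t ht]
      simp only [ed_val, eu_val, el_val, Matrix.mul_fin_two, inv_inv]
      ext i j; fin_cases i <;> fin_cases j <;> simp <;> field_simp
  have R : Rels x y := ⟨addx, addy, cx, cy⟩
  refine ⟨gen x y, fun g hg hg1 => ?_, ?_⟩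
  · have hH : ∀ t : F, t ≠ 0 → (π (H x y t)).1 = !![t, 0; 0, t⁻¹] := fun t ht => by
      rw [H, map_mul, mulv, hW t ht, hW (-1) (neg_ne_zero.mpr one_ne_zero)]
      simp
    have h1 : (π g).1 = 1 := by rw [hg1]; rfl
    rcases R.normal_of_mem hg with ⟨a, t, ht, rfl⟩ | ⟨a, t, b, ht, rfl⟩
    · rw [map_mul, mulv, hH t ht, πx, eu_val] at h1
      have e00 : t = 1 := by simpa using congrFun (congrFun h1 0) 0
      have e01 : a * t⁻¹ = 0 := by simpa using congrFun (congrFun h1 0) 1
      subst e00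
      rw [show a = 0 by simpa using e01, R.x_zero, R.H_one, one_mul]
    · exfalso
      rw [map_mul, map_mul, map_mul, mulv, mulv, mulv, hH t ht, hW 1 one_ne_zero, πx, πx, eu_val, eu_val] at h1
      have e10 := congrFun (congrFun h1 1) 0
      simp at e10
      exact ht e10
  · rw [eq_top_iff, ← closure_transvection_eq_top (K := F) (n := 2) le_rfl, Subgroup.closure_le]
    rintro _ ⟨i, j, h, t, rfl⟩
    rw [gen, MonoidHom.map_closure]
    fin_cases i <;> fin_cases j
    · exact absurd rfl h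
    · exact Subgroup.subset_closure ⟨x t, Or.inl ⟨t, rfl⟩, πx t⟩
    · exact Subgroup.subset_closure ⟨y t, Or.inr ⟨t, rfl⟩, πy t⟩
    · exact absurd rfl h

end Extension

theorem splitG_SL2 {F : Type u} [Field F] [Fintype F] (h5 : 5 ≤ Fintype.card F) (h9 : Fintype.card F ≠ 9) :
    SplitG (Matrix.SpecialLinearGroup (Fin 2) F) :=
  splitG_of_subgroup fun _E _ _π hπ hc => exists_lift (by omega) (by omega) h9 hπ hc

theorem perfect_SL2 {F : Type*} [Field F] [Fintype F] (h4 : 4 ≤ Fintype.card F) :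
    commutator (Matrix.SpecialLinearGroup (Fin 2) F) = ⊤ := by
  classical
  obtain ⟨c, hc0, hc2⟩ : ∃ c : F, c ≠ 0 ∧ c ^ 2 - 1 ≠ 0 := by
    by_contra hcon
    push Not at hcon
    have h1 := Finset.card_le_card (fun x _ => show x ∈ ({0, 1, -1} : Finset F) by
      simp only [Finset.mem_insert, Finset.mem_singleton]
      by_cases hx : x = 0
      · exact Or.inl hx
      · exact Or.inr (sq_eq_one_iff.mp (sub_eq_zero.mp (hcon x hx))) : (Finset.univ : Finset F) ⊆ {0, 1, -1})
    have h2 : ({0, 1, -1} : Finset F).card ≤ 3 := Finset.card_le_three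
    rw [Finset.card_univ] at h1
    omega
  have mulv : ∀ A B : Matrix.SpecialLinearGroup (Fin 2) F, (A * B).1 = A.1 * B.1 := fun _ _ => rfl
  rw [eq_top_iff, ← closure_transvection_eq_top (K := F) (n := 2) le_rfl, Subgroup.closure_le]
  rintro _ ⟨i, j, h, t, rfl⟩
  have key : ∀ (d e e' : Matrix.SpecialLinearGroup (Fin 2) F), d * e = e' * e * d →
      e' ∈ commutator (Matrix.SpecialLinearGroup (Fin 2) F) := by
    intro d e e' he
    rw [show e' = ⁅d, e⁆ by rw [commutatorElement_def, he]; group, commutator_def]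
    exact Subgroup.commutator_mem_commutator (Subgroup.mem_top _) (Subgroup.mem_top _)
  fin_cases i <;> fin_cases j
  · exact absurd rfl h
  · refine key (ed c hc0) (eu (t / (c ^ 2 - 1))) _ (Subtype.ext ?_)
    rw [mulv, mulv, mulv, show (Matrix.SpecialLinearGroup.transvection h t : Matrix.SpecialLinearGroup (Fin 2) F) = eu t from rfl,
      ed_val, eu_val, eu_val]
    simp only [Matrix.mul_fin_two]
    ext i j; fin_cases i <;> fin_cases j <;> simp <;> field_simp <;> ring
  · refine key (ed c⁻¹ (inv_ne_zero hc0)) (el (t / (c ^ 2 - 1))) _ (Subtype.ext ?_)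
    rw [mulv, mulv, mulv, show (Matrix.SpecialLinearGroup.transvection h t : Matrix.SpecialLinearGroup (Fin 2) F) = el t from rfl,
      ed_val, el_val, el_val]
    simp only [Matrix.mul_fin_two, inv_inv]
    ext i j; fin_cases i <;> fin_cases j <;> simp <;> field_simp <;> ring
  · exact absurd rfl h

end CfsgLib.StSL
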