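/-
The multipliers of `SL₂(2)` and `SL₂(3)` are trivial.
-/
import Cfsg.Agent.Lib.StSL.Split

set_option autoImplicit false

namespace CfsgLib.StSL

open Matrix
open scoped commutatorElement

universe u v

/-- Transfer into the preimage of a subgroup. -/
theorem pow_index_mem {G : Type v} {Γ : Type u} [Group G] [Group Γ] [Finite Γ] {σ : Γ →* G} (hσ : Cfsg.IsStemExtension σ)
    (P : Subgroup G) {z : Γ} (hz : z ∈ σ.ker) :
    ∃ h : z ^ P.index ∈ P.comap σ, (⟨z ^ P.index, h⟩ : P.comap σ) ∈ commutator (P.comap σ) := by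
  set H := P.comap σ
  have hidx : H.index = P.index := Subgroup.index_comap_of_surjective P hσ.1
  have key : ∀ (k : ℕ) (g₀ : Γ), g₀⁻¹ * z ^ k * g₀ ∈ H → g₀⁻¹ * z ^ k * g₀ = z ^ k := fun k g₀ _ => by
    rw [mul_assoc, ← Subgroup.mem_center_iff.mp ((Subgroup.center Γ).pow_mem (hσ.2.1 hz) k) g₀, inv_mul_cancel_left]
  have h1 : MonoidHom.transfer (Abelianization.of : H →* Abelianization H) z = 1 := by
    have : commutator Γ ≤ (MonoidHom.transfer (Abelianization.of : H →* Abelianization H)).ker :=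
      Abelianization.commutator_subset_ker _
    exact this (hσ.2.2 hz)
  rw [MonoidHom.transfer_eq_pow _ _ key] at h1
  rw [← hidx]
  refine ⟨?_, ?_⟩
  · show σ _ ∈ P
    rw [map_pow, MonoidHom.mem_ker.mp hz, one_pow]
    exact one_mem _
  · rw [← Abelianization.ker_of]
    exact h1

theorem pow_index_eq_one_of_cyclic {G : Type v} {Γ : Type u} [Group G] [Group Γ] [Finite Γ] {σ : Γ →* G}
    (hσ : Cfsg.IsStemExtension σ) (g : G) {z : Γ} (hz : z ∈ σ.ker) : z ^ (Subgroup.zpowers g).index = 1 := by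
  obtain ⟨h, hm⟩ := pow_index_mem hσ (Subgroup.zpowers g) hz
  obtain ⟨a, ha⟩ := hσ.1 g
  have hab : commutator ((Subgroup.zpowers g).comap σ) = ⊥ := by
    rw [commutator_def, Subgroup.commutator_eq_bot_iff_le_centralizer]
    rintro ⟨x, hx⟩ -
    rw [Subgroup.mem_centralizer_iff]
    rintro ⟨y, hy⟩ -
    obtain ⟨k, hk⟩ := Subgroup.mem_zpowers_iff.mp hx
    obtain ⟨l, hl⟩ := Subgroup.mem_zpowers_iff.mp hy
    refine Subtype.ext (commutatorElement_eq_one_iff_commute.mp ?_)
    show ⁅y, x⁆ = 1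
    rw [comm_congr hσ.2.1 (show σ y = σ (a ^ l) by rw [map_zpow, ha, hl]) (show σ x = σ (a ^ k) by rw [map_zpow, ha, hk]),
      commutatorElement_eq_one_iff_commute]
    exact Commute.zpow_zpow_self a l k
  rw [hab, Subgroup.mem_bot] at hm
  exact congrArg Subtype.val hm

theorem stem_two {G : Type v} [Group G] [Finite G] {g h : G} (hg : orderOf g = 3) (hh : orderOf h = 2)
    (hG : Nat.card G = 6) {Γ : Type u} [Group Γ] [Finite Γ] {σ : Γ →* G} (hσ : Cfsg.IsStemExtension σ) :
    σ.ker = ⊥ := by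
  have i2 : (Subgroup.zpowers g).index = 2 := by
    have := (Subgroup.zpowers g).card_mul_index
    rw [Nat.card_zpowers, hg, hG] at this
    omega
  have i3 : (Subgroup.zpowers h).index = 3 := by
    have := (Subgroup.zpowers h).card_mul_index
    rw [Nat.card_zpowers, hh, hG] at this
    omega
  rw [Subgroup.eq_bot_iff_forall]
  intro z hz
  have a := pow_index_eq_one_of_cyclic hσ g hz
  have b := pow_index_eq_one_of_cyclic hσ h hz
  rw [i2] at a
  rw [i3, pow_succ, a, one_mul] at b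
  exact b

/-- Elements of `SL₂(2)` and `SL₂(3)`. -/
def g2 : Matrix.SpecialLinearGroup (Fin 2) (ZMod 2) := ⟨!![0, 1; 1, 1], by decide⟩

def h2 : Matrix.SpecialLinearGroup (Fin 2) (ZMod 2) := ⟨!![1, 1; 0, 1], by decide⟩

def i3 : Matrix.SpecialLinearGroup (Fin 2) (ZMod 3) := ⟨!![0, 1; 2, 0], by decide⟩

def j3 : Matrix.SpecialLinearGroup (Fin 2) (ZMod 3) := ⟨!![1, 1; 1, 2], by decide⟩

def t3 : Matrix.SpecialLinearGroup (Fin 2) (ZMod 3) := ⟨!![1, 1; 0, 1], by decide⟩

/-- `SL₂(2)`. -/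
theorem stem_SL2_two {Γ : Type u} [Group Γ] [Finite Γ] {σ : Γ →* Matrix.SpecialLinearGroup (Fin 2) (ZMod 2)}
    (hσ : Cfsg.IsStemExtension σ) : σ.ker = ⊥ := by
  haveI : Fact (Nat.Prime 3) := ⟨Nat.prime_three⟩
  haveI : Fact (Nat.Prime 2) := ⟨Nat.prime_two⟩
  refine stem_two (g := g2) (h := h2) ?_ ?_ ?_ hσ
  · exact orderOf_eq_prime (by decide) (by decide)
  · exact orderOf_eq_prime (by decide) (by decide)
  · rw [Nat.card_eq_fintype_card]; decide

/-- `SL₂(3)`. -/
theorem stem_SL2_three {Γ : Type u} [Group Γ] [Finite Γ] {σ : Γ →* Matrix.SpecialLinearGroup (Fin 2) (ZMod 3)}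
    (hσ : Cfsg.IsStemExtension σ) : σ.ker = ⊥ := by
  haveI : Fact (Nat.Prime 3) := ⟨Nat.prime_three⟩
  haveI : Fact (Nat.Prime 2) := ⟨Nat.prime_two⟩
  set i : Matrix.SpecialLinearGroup (Fin 2) (ZMod 3) := i3 with hi
  set j : Matrix.SpecialLinearGroup (Fin 2) (ZMod 3) := j3 with hj
  have hcard : Nat.card (Matrix.SpecialLinearGroup (Fin 2) (ZMod 3)) = 24 := by
    rw [Nat.card_eq_fintype_card]; decide
  have oi : orderOf i = 4 := orderOf_eq_prime_pow (p := 2) (n := 1) (by decide) (by decide)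
  have i6 : (Subgroup.zpowers i).index = 6 := by
    have := (Subgroup.zpowers i).card_mul_index
    rw [Nat.card_zpowers, oi, hcard] at this
    omega
  let Q : Subgroup (Matrix.SpecialLinearGroup (Fin 2) (ZMod 3)) :=
    { carrier := {g | g = 1 ∨ g = i ∨ g = i ^ 2 ∨ g = i ^ 3 ∨ g = j ∨ g = j * i ∨ g = j * i ^ 2 ∨ g = j * i ^ 3}
      one_mem' := Or.inl rfl
      mul_mem' := by
        intro a b ha hb
        simp only [Set.mem_setOf_eq] at ha hb ⊢
        rcases ha with rfl | rfl | rfl | rfl | rfl | rfl | rfl | rfl <;>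
          rcases hb with rfl | rfl | rfl | rfl | rfl | rfl | rfl | rfl <;> simp only [hi, hj] <;> decide
      inv_mem' := by
        intro a ha
        simp only [Set.mem_setOf_eq] at ha ⊢
        rcases ha with rfl | rfl | rfl | rfl | rfl | rfl | rfl | rfl <;> simp only [hi, hj] <;> decide }
  have hQ : Q.index = 3 := by
    have h8 : Nat.card Q = 8 := by
      have e : (Q : Set (Matrix.SpecialLinearGroup (Fin 2) (ZMod 3))) =
          (({1, i, i ^ 2, i ^ 3, j, j * i, j * i ^ 2, j * i ^ 3} :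
            Finset (Matrix.SpecialLinearGroup (Fin 2) (ZMod 3))) : Set (Matrix.SpecialLinearGroup (Fin 2) (ZMod 3))) := by
        ext g; simp [Q]
      show Nat.card ↥(Q : Set (Matrix.SpecialLinearGroup (Fin 2) (ZMod 3))) = 8
      rw [Nat.card_coe_set_eq, e, Set.ncard_coe_finset]
      simp only [hi, hj]; decide
    have := Q.card_mul_index
    rw [h8, hcard] at this
    omega
  rw [Subgroup.eq_bot_iff_forall]
  intro z hz
  have z6 := pow_index_eq_one_of_cyclic hσ i hz
  rw [i6] at z6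
  obtain ⟨hm, hmem⟩ := pow_index_mem hσ Q hz
  -- the preimage of the quaternion group
  set H := Q.comap σ
  obtain ⟨a, ha⟩ := hσ.1 i
  obtain ⟨b, hb⟩ := hσ.1 j
  let a' : H := ⟨a, show σ a ∈ Q by rw [ha]; exact Or.inr (Or.inl rfl)⟩
  let b' : H := ⟨b, show σ b ∈ Q by rw [hb]; exact Or.inr (Or.inr (Or.inr (Or.inr (Or.inl rfl))))⟩
  let K : Subgroup H := σ.ker.subgroupOf H
  have hK : K ≤ Subgroup.center H := fun x hx => Subgroup.mem_center_iff.mpr fun y =>
    Subtype.ext (Subgroup.mem_center_iff.mp (hσ.2.1 hx) y.1)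
  have hgen : Subgroup.closure {a', b'} ⊔ K = ⊤ := by
    rw [eq_top_iff]
    intro x _
    set T := Subgroup.closure {a', b'} ⊔ K
    have am : a' ∈ T := Subgroup.mem_sup_left (Subgroup.subset_closure (Set.mem_insert _ _))
    have bm : b' ∈ T := Subgroup.mem_sup_left (Subgroup.subset_closure (Set.mem_insert_of_mem _ rfl))
    have key : ∀ y ∈ T, σ x.1 = σ y.1 → x ∈ T := fun y hy e => by
      have : y⁻¹ * x ∈ K := Subgroup.mem_subgroupOf.mpr (by
        rw [MonoidHom.mem_ker]; simp [map_mul, map_inv, e])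
      simpa using mul_mem hy (Subgroup.mem_sup_right this)
    rcases (show σ x.1 ∈ Q from x.2) with e | e | e | e | e | e | e | e
    · exact key 1 (one_mem _) (by simp [e])
    · exact key a' am (by simp [e, a', ha])
    · exact key (a' ^ 2) (pow_mem am 2) (by simp [e, a', ha])
    · exact key (a' ^ 3) (pow_mem am 3) (by simp [e, a', ha])
    · exact key b' bm (by simp [e, b', hb])
    · exact key (b' * a') (mul_mem bm am) (by simp [e, a', b', ha, hb])
    · exact key (b' * a' ^ 2) (mul_mem bm (pow_mem am 2)) (by simp [e, a', b', ha, hb])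
    · exact key (b' * a' ^ 3) (mul_mem bm (pow_mem am 3)) (by simp [e, a', b', ha, hb])
  have hw : b' * a' * b'⁻¹ * a' ∈ K := Subgroup.mem_subgroupOf.mpr (by
    rw [MonoidHom.mem_ker]
    simp only [Subgroup.coe_mul, Subgroup.coe_inv, map_mul, map_inv, a', b', ha, hb, hi, hj]
    decide)
  have hcomm : Commute b' (a' ^ 2) := by
    refine Subtype.ext ?_
    show b * a ^ 2 = a ^ 2 * b
    have : ⁅b, a ^ 2⁆ = 1 := by
      rw [comm_congr hσ.2.1 (rfl : σ b = σ b) (show σ (a ^ 2) = σ (b ^ 2) by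
        rw [map_pow, map_pow, ha, hb]; simp only [hi, hj]; decide), commutatorElement_eq_one_iff_commute]
      exact Commute.self_pow b 2
    exact commutatorElement_eq_one_iff_commute.mp this
  obtain ⟨hle, hc2⟩ := CfsgLib.SchurSmall.inversion_type hK hgen hw hcomm
  set c := (a' ^ 2)⁻¹ * (b' * a' * b'⁻¹ * a')
  have hσc : σ c.1 = i ^ 2 := by
    simp only [c, Subgroup.coe_mul, Subgroup.coe_inv, Subgroup.coe_pow, map_mul, map_inv, map_pow, a', b', ha, hb,
      hi, hj]
    decide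
  obtain ⟨k, hk⟩ := Subgroup.mem_zpowers_iff.mp (hle hmem)
  have hk2 : k % 2 = 0 := by
    by_contra hodd
    have e : σ (c.1 ^ k) = i ^ 2 := by
      rw [show k = 2 * (k / 2) + 1 by omega, _root_.zpow_add, zpow_one, _root_.zpow_mul,
        show c.1 ^ (2 : ℤ) = 1 by exact_mod_cast congrArg Subtype.val hc2, _root_.one_zpow, one_mul, hσc]
    have hk' := congrArg (fun x : H => σ x.1) hk
    simp only [Subgroup.coe_zpow, map_pow, MonoidHom.mem_ker.mp hz, one_pow] at hk'
    rw [hk'] at e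
    simp only [hi] at e
    exact absurd e (by decide)
  have z3 : z ^ 3 = 1 := by
    obtain ⟨m, rfl⟩ : ∃ m, k = 2 * m := ⟨k / 2, by omega⟩
    rw [_root_.zpow_mul, zpow_two, ← sq, hc2, _root_.one_zpow] at hk
    have hk2' : (1 : Γ) = z ^ Q.index := congrArg Subtype.val hk
    rw [← hQ]
    exact hk2'.symm
  -- the other primes
  obtain ⟨d, hd⟩ : (2 : ℕ) ∣ 6 := ⟨3, rfl⟩
  have z2 : z ^ 2 = 1 := by
    obtain ⟨h3, hm3⟩ : ∃ g : Matrix.SpecialLinearGroup (Fin 2) (ZMod 3), g ≠ 1 ∧ g ^ 3 = 1 :=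
      ⟨t3, by decide, by decide⟩
    have o3 : orderOf h3 = 3 := orderOf_eq_prime hm3.2 hm3.1
    have i8 : (Subgroup.zpowers h3).index = 8 := by
      have := (Subgroup.zpowers h3).card_mul_index
      rw [Nat.card_zpowers, o3, hcard] at this
      omega
    have z8 := pow_index_eq_one_of_cyclic hσ h3 hz
    rw [i8] at z8
    calc z ^ 2 = z ^ 2 * (z ^ 6) := by rw [z6, mul_one]
      _ = z ^ 8 := by rw [← pow_add]
      _ = 1 := z8
  rw [pow_succ, z2, one_mul] at z3
  exact z3

/-- Transport along an isomorphism. -/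
theorem trivial_multiplier_of_equiv {G : Type u} {G' : Type v} [Group G] [Group G'] [Finite G'] (e : G ≃* G')
    (h : ∀ (Γ : Type u) [Group Γ] [Finite Γ] (σ : Γ →* G'), Cfsg.IsStemExtension σ → σ.ker = ⊥) :
    Cfsg.HasCyclicSchurMultiplier G 1 := by
  haveI : Finite G := Finite.of_equiv _ e.symm.toEquiv
  refine CfsgLib.SchurSmall.trivial_multiplier fun Γ _ _ σ hσ => ?_
  have hk := h Γ (e.toMonoidHom.comp σ)
    ⟨e.surjective.comp hσ.1, fun x hx => hσ.2.1 (by simpa using hx), fun x hx => hσ.2.2 (by simpa using hx)⟩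
  rw [eq_bot_iff]
  intro x hx
  have hm : x ∈ (e.toMonoidHom.comp σ).ker := by simp [MonoidHom.mem_ker.mp hx]
  rwa [hk] at hm

end CfsgLib.StSL
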