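/-
Central extensions of `SL_n(q)` split for `n ≥ 3`, apart from the exceptions `(3,2)`, `(3,4)`, `(4,2)`.
-/
import Cfsg.Agent.Lib.StSL.Presentation
import Cfsg.Agent.Lib.StSL.Split

set_option autoImplicit false

namespace CfsgLib.StSL

open Matrix
open scoped commutatorElement
open CfsgLib.SL2St

universe u

variable {F : Type*} [Field F] [Fintype F] {n : ℕ}

/-- Transvections, totalised. -/
def tv (i j : Fin n) (t : F) : (Matrix.SpecialLinearGroup (Fin n) F) :=
  if h : i ≠ j then Matrix.SpecialLinearGroup.transvection h t else 1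

omit [Fintype F] in
theorem tv_val {i j : Fin n} (h : i ≠ j) (t : F) : (tv i j t).1 = 1 + Matrix.single i j t := by
  rw [tv, dif_pos h]; rfl

omit [Fintype F] in
theorem raw_tv : Raw (tv : Fin n → Fin n → F → (Matrix.SpecialLinearGroup (Fin n) F)) := by
  refine ⟨fun {i j} h t u => ?_, fun {i j k l} h1 h2 h3 h4 t u => ?_, fun {i j k} h1 h2 h3 t u => ?_⟩
  · apply Subtype.ext
    show (tv i j (t + u)).1 = (tv i j t).1 * (tv i j u).1
    rw [tv_val h, tv_val h, tv_val h]
    simp only [mul_add, add_mul, mul_one, one_mul, single_mul_single_of_ne _ _ _ _ (Ne.symm h), single_add]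
    abel
  · apply Subtype.ext
    show (tv i j t).1 * (tv k l u).1 = (tv k l u).1 * (tv i j t).1
    rw [tv_val h1, tv_val h2]
    simp only [mul_add, add_mul, mul_one, one_mul, single_mul_single_of_ne _ _ _ _ h3,
      single_mul_single_of_ne _ _ _ _ (Ne.symm h4)]
    abel
  · simp only [tv, dif_pos h1, dif_pos h2, dif_pos h3]
    exact CfsgLib.SLPerfect.comm_transvection h1 h2 h3 t u

/-- A diagonal element. -/
def dg (d : Fin n → F) (hd : (Matrix.diagonal d).det = 1) : Matrix.SpecialLinearGroup (Fin n) F :=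
  ⟨Matrix.diagonal d, hd⟩

omit [Fintype F] in
theorem diag_conj (d : Fin n → F) (hd : (Matrix.diagonal d).det = 1) {i j : Fin n} (h : i ≠ j) (t : F) :
    (dg d hd) * tv i j t * (dg d hd)⁻¹ = tv i j (d i / d j * t) := by
  have hne : ∀ k, d k ≠ 0 := fun k e => by
    rw [Matrix.det_diagonal] at hd
    rw [Finset.prod_eq_zero (Finset.mem_univ k) e] at hd
    exact zero_ne_one hd
  rw [mul_inv_eq_iff_eq_mul]
  apply Subtype.ext
  show (dg d hd).1 * (tv i j t).1 = (tv i j (d i / d j * t)).1 * (dg d hd).1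
  rw [tv_val h, tv_val h, show (dg d hd).1 = Matrix.diagonal d from rfl]
  ext a b
  rw [Matrix.diagonal_mul, Matrix.mul_diagonal, Matrix.add_apply, Matrix.add_apply]
  simp only [Matrix.one_apply, Matrix.single_apply]
  by_cases hab : i = a ∧ j = b
  · obtain ⟨rfl, rfl⟩ := hab
    simp [h]
    have := hne j
    field_simp
  · rw [if_neg hab, if_neg hab]
    by_cases e : a = b
    · subst e; simp
    · simp [e]

omit [Fintype F] in
theorem exists_torus {i j l : Fin n} (hij : i ≠ j) (hil : i ≠ l) (hjl : j ≠ l) {a b : F} (ha : a ≠ 0) (hb : b ≠ 0) :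
    ∃ d : Fin n → F, (Matrix.diagonal d).det = 1 ∧ d i = a ∧ d j = b ∧ d l = (a * b)⁻¹ ∧
      ∀ k, k ≠ i → k ≠ j → k ≠ l → d k = 1 := by
  refine ⟨fun k => if k = i then a else if k = j then b else if k = l then (a * b)⁻¹ else 1, ?_, by simp,
    by simp [hij.symm], by simp [hil.symm, hjl.symm], fun k h1 h2 h3 => by simp [h1, h2, h3]⟩
  rw [Matrix.det_diagonal, ← Finset.prod_subset (Finset.subset_univ ({i, j, l} : Finset (Fin n)))]
  · rw [Finset.prod_insert (by simp [hij, hil]), Finset.prod_insert (by simp [hjl]), Finset.prod_singleton]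
    simp only [if_true, if_neg hij.symm, if_neg hil.symm, if_neg hjl.symm]
    field_simp
  · intro k _ hk
    simp only [Finset.mem_insert, Finset.mem_singleton, not_or] at hk
    simp [hk.1, hk.2.1, hk.2.2]

theorem exists_cube_ne (h2 : Fintype.card F ≠ 2) (h4 : Fintype.card F ≠ 4) :
    ∃ a : F, a ≠ 0 ∧ a ^ 3 ≠ 1 := by
  obtain ⟨g, hg⟩ := IsCyclic.exists_generator (α := Fˣ)
  refine ⟨(g : F), g.ne_zero, fun e => ?_⟩
  have h' : orderOf g ∣ 3 := orderOf_dvd_of_pow_eq_one (Units.ext (by simpa using e))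
  rw [orderOf_eq_card_of_forall_mem_zpowers hg, Nat.card_units, Nat.card_eq_fintype_card] at h'
  rcases (Nat.dvd_prime Nat.prime_three).mp h' with e' | e'
  · have := Fintype.one_lt_card (α := F); omega
  · omega

omit [Fintype F] in
theorem exists_third (hn : 3 ≤ n) (i j : Fin n) : ∃ h : Fin n, h ≠ i ∧ h ≠ j := by
  by_contra hcon
  push Not at hcon
  have h1 := Finset.card_le_card (fun l _ => show l ∈ ({i, j} : Finset (Fin n)) by
    simp only [Finset.mem_insert, Finset.mem_singleton]
    exact or_iff_not_imp_left.mpr (hcon l) : (Finset.univ : Finset (Fin n)) ⊆ {i, j})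
  have h2 : ({i, j} : Finset (Fin n)).card ≤ 2 := Finset.card_le_two
  simp at h1
  omega

section Extension

variable {E : Type*} [Group E] {π : E →* (Matrix.SpecialLinearGroup (Fin n) F)} (hπ : Function.Surjective π) (hc : π.ker ≤ Subgroup.center E)

/-- Preimages of two commuting root subgroups commute. -/
def CP (π : E →* (Matrix.SpecialLinearGroup (Fin n) F)) (i j k l : Fin n) : Prop :=
  ∀ g p t u, π g = tv i j t → π p = tv k l u → Commute g p

include hπ hc in
theorem cp_chain {i j k l h : Fin n} (hij : i ≠ j) (hkl : k ≠ l) (h3 : j ≠ k) (h4 : i ≠ l) (hi : h ≠ i) (hj : h ≠ j)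
    (hk : h ≠ k) (hl : h ≠ l) : CP π i j k l := by
  intro g p t u hg hp
  obtain ⟨a, ha⟩ := hπ (tv k h u)
  obtain ⟨b, hb⟩ := hπ (tv h l 1)
  have e : π p = π ⁅a, b⁆ := by
    rw [map_commutatorElement, ha, hb, raw_tv.mul (Ne.symm hk) hl hkl, mul_one, hp]
  rw [← commutatorElement_eq_one_iff_commute, comm_congr hc (rfl : π g = π g) e,
    commutatorElement_eq_one_iff_commute]
  have fa : π (g * a * g⁻¹) = π a := by
    rw [map_mul, map_mul, map_inv, hg, ha, raw_tv.conj_eq hij (Ne.symm hk) h3 (Ne.symm hi)]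
  have fb : π (g * b * g⁻¹) = π b := by
    rw [map_mul, map_mul, map_inv, hg, hb, raw_tv.conj_eq hij hl (Ne.symm hj) h4]
  have := comm_congr hc fa fb
  rw [show ⁅g * a * g⁻¹, g * b * g⁻¹⁆ = g * ⁅a, b⁆ * g⁻¹ by simp only [commutatorElement_def]; group,
    mul_inv_eq_iff_eq_mul] at this
  exact this

omit [Fintype F] in
include hπ hc in
theorem cp_pairing {i j k l : Fin n} (hij : i ≠ j) (hkl : k ≠ l) (h3 : j ≠ k) (h4 : i ≠ l) :
    ∃ f : F → F → E, (∀ g p t u, π g = tv i j t → π p = tv k l u → ⁅g, p⁆ = f t u) ∧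
      (∀ a b u, f (a + b) u = f a u * f b u) ∧ (∀ t a b, f t (a + b) = f t a * f t b) ∧
      ∀ (s : (Matrix.SpecialLinearGroup (Fin n) F)) t u t' u', s * tv i j t * s⁻¹ = tv i j t' → s * tv k l u * s⁻¹ = tv k l u' → f t' u' = f t u := by
  set a : F → E := fun t => Function.surjInv hπ (tv i j t)
  set b : F → E := fun u => Function.surjInv hπ (tv k l u)
  have πa : ∀ t, π (a t) = tv i j t := fun t => Function.surjInv_eq hπ _
  have πb : ∀ u, π (b u) = tv k l u := fun u => Function.surjInv_eq hπ _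
  have fc : ∀ t u x, Commute x ⁅a t, b u⁆ := fun t u x => Subgroup.mem_center_iff.mp (hc (by
    rw [MonoidHom.mem_ker, map_commutatorElement, πa, πb, commutatorElement_eq_one_iff_commute]
    exact raw_tv.comm hij hkl h3 h4 t u)) x
  refine ⟨fun t u => ⁅a t, b u⁆, fun g p t u hg hp => comm_congr hc (hg.trans (πa t).symm) (hp.trans (πb u).symm),
    fun x y u => ?_, fun t x y => ?_, fun s t u t' u' e1 e2 => ?_⟩
  · show ⁅a (x + y), b u⁆ = ⁅a x, b u⁆ * ⁅a y, b u⁆
    rw [comm_congr hc (show π (a (x + y)) = π (a x * a y) by rw [map_mul, πa, πa, πa, raw_tv.add hij]) rfl,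
      show ⁅a x * a y, b u⁆ = a x * ⁅a y, b u⁆ * (a x)⁻¹ * ⁅a x, b u⁆ by simp only [commutatorElement_def]; group,
      (fc y u (a x)).eq, mul_inv_cancel_right, (fc x u _).eq]
  · show ⁅a t, b (x + y)⁆ = ⁅a t, b x⁆ * ⁅a t, b y⁆
    rw [comm_congr hc rfl (show π (b (x + y)) = π (b x * b y) by rw [map_mul, πb, πb, πb, raw_tv.add hkl]),
      show ⁅a t, b x * b y⁆ = ⁅a t, b x⁆ * (b x * ⁅a t, b y⁆ * (b x)⁻¹) by simp only [commutatorElement_def]; group,
      (fc t y (b x)).eq, mul_inv_cancel_right]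
  · obtain ⟨g, hg⟩ := hπ s
    show ⁅a t', b u'⁆ = ⁅a t, b u⁆
    rw [show ⁅a t, b u⁆ = g * ⁅a t, b u⁆ * g⁻¹ by rw [(fc t u g).eq, mul_inv_cancel_right],
      show g * ⁅a t, b u⁆ * g⁻¹ = ⁅g * a t * g⁻¹, g * b u * g⁻¹⁆ by simp only [commutatorElement_def]; group]
    refine comm_congr hc ?_ ?_ <;> rw [map_mul, map_mul, map_inv, hg]
    · rw [πa, πa, e1]
    · rw [πb, πb, e2]

omit [Fintype F] in
include hπ hc in
theorem cp_scaled {i j k l : Fin n} (hij : i ≠ j) (hkl : k ≠ l) (h3 : j ≠ k) (h4 : i ≠ l) (s : (Matrix.SpecialLinearGroup (Fin n) F)) {lam : F}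
    (hlam : lam ≠ 1) (e1 : ∀ t, s * tv i j t * s⁻¹ = tv i j (lam * t))
    (e2 : ∀ u, s * tv k l u * s⁻¹ = tv k l u) : CP π i j k l := by
  obtain ⟨f, hf, fl, -, finv⟩ := cp_pairing hπ hc hij hkl h3 h4
  intro g p t u hg hp
  rw [← commutatorElement_eq_one_iff_commute, hf g p t u hg hp]
  have h0 : ∀ t, f (lam * t - t) u = 1 := by
    intro t
    have := fl (lam * t - t) t u
    rw [sub_add_cancel, finv s t u _ u (e1 t) (e2 u)] at this
    exact right_eq_mul.mp this
  have := h0 (t / (lam - 1))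
  have hl : lam - 1 ≠ 0 := sub_ne_zero.mpr hlam
  rwa [show lam * (t / (lam - 1)) - t / (lam - 1) = t by field_simp] at this

/-- The admissible pairs `(n, q)`. -/
def Admissible (n q : ℕ) : Prop := 3 ≤ n ∧ (n = 3 → q ≠ 2 ∧ q ≠ 4) ∧ (n = 4 → q ≠ 2)

include hπ hc in
theorem cp_all (hA : Admissible n (Fintype.card F)) {i j k l : Fin n} (hij : i ≠ j) (hkl : k ≠ l) (h3 : j ≠ k)
    (h4 : i ≠ l) : CP π i j k l := by
  classical
  by_cases hfree : ∃ h, h ≠ i ∧ h ≠ j ∧ h ≠ k ∧ h ≠ l
  · obtain ⟨h, a1, a2, a3, a4⟩ := hfree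
    exact cp_chain hπ hc hij hkl h3 h4 a1 a2 a3 a4
  push Not at hfree
  have hcover : (Finset.univ : Finset (Fin n)) ⊆ {i, j, k, l} := fun h _ => by
    simp only [Finset.mem_insert, Finset.mem_singleton]
    by_cases a1 : h = i; · exact Or.inl a1
    by_cases a2 : h = j; · exact Or.inr (Or.inl a2)
    by_cases a3 : h = k; · exact Or.inr (Or.inr (Or.inl a3))
    exact Or.inr (Or.inr (Or.inr (hfree h a1 a2 a3)))
  have hcard := Finset.card_le_card hcover
  simp only [Finset.card_univ, Fintype.card_fin] at hcard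
  obtain ⟨hn3, hA3, hA4⟩ := hA
  by_cases hik : i = k
  · subst hik
    by_cases hjl : j = l
    · subst hjl
      exfalso
      have : ({i, j, i, j} : Finset (Fin n)).card ≤ 2 := le_trans (Finset.card_le_card (fun x hx => by
        simp only [Finset.mem_insert, Finset.mem_singleton] at hx ⊢; tauto)) (Finset.card_le_two (a := i) (b := j))
      omega
    have : ({i, j, i, l} : Finset (Fin n)).card ≤ 3 := le_trans (Finset.card_le_card (fun x hx => by
        simp only [Finset.mem_insert, Finset.mem_singleton] at hx ⊢; tauto)) (Finset.card_le_three (a := i) (b := j) (c := l))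
    obtain ⟨h2, h4'⟩ := hA3 (by omega)
    obtain ⟨a, ha, ha3⟩ := exists_cube_ne h2 h4'
    obtain ⟨d, hd, di, dl, dj, -⟩ := exists_torus hkl hij (Ne.symm hjl) ha ha
    refine cp_scaled hπ hc hij hkl h3 h4 (dg d hd) ha3 (fun t => ?_) (fun u => ?_)
    · rw [diag_conj d hd hij, di, dj, div_inv_eq_mul]; congr 1; ring
    · rw [diag_conj d hd hkl, di, dl, div_self ha, one_mul]
  by_cases hjl : j = l
  · subst hjl
    have : ({i, j, k, j} : Finset (Fin n)).card ≤ 3 := le_trans (Finset.card_le_card (fun x hx => by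
        simp only [Finset.mem_insert, Finset.mem_singleton] at hx ⊢; tauto)) (Finset.card_le_three (a := i) (b := j) (c := k))
    obtain ⟨h2, h4'⟩ := hA3 (by omega)
    obtain ⟨a, ha, ha3⟩ := exists_cube_ne h2 h4'
    obtain ⟨d, hd, dk, dj, di, -⟩ := exists_torus hkl (Ne.symm hik) (Ne.symm hij) (inv_ne_zero ha) (inv_ne_zero ha)
    refine cp_scaled hπ hc hij hkl h3 h4 (dg d hd) ha3 (fun t => ?_) (fun u => ?_)
    · rw [diag_conj d hd hij, di, dj, div_inv_eq_mul, _root_.mul_inv_rev, inv_inv]; congr 1; ring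
    · rw [diag_conj d hd hkl, dk, dj, div_self (inv_ne_zero ha), one_mul]
  have : ({i, j, k, l} : Finset (Fin n)).card ≤ 4 := Finset.card_le_four
  by_cases hn4 : n = 4
  swap
  · exfalso
    have h3' : n = 3 := by omega
    subst h3'
    have h4c : ({i, j, k, l} : Finset (Fin 3)).card = 4 := by
      rw [Finset.card_insert_of_notMem (by simp [hij, hik, h4]), Finset.card_insert_of_notMem (by simp [h3, hjl]),
        Finset.card_insert_of_notMem (by simp [hkl]), Finset.card_singleton]
    have := Finset.card_le_univ ({i, j, k, l} : Finset (Fin 3))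
    rw [h4c, Fintype.card_fin] at this
    omega
  have hq : Fintype.card F ≠ 2 := hA4 hn4
  by_cases hq3 : Fintype.card F = 3
  · -- exchange the two pairs
    obtain ⟨f, hf, fl, fr, -⟩ := cp_pairing hπ hc hij hkl h3 h4
    haveI : Fact (Nat.Prime 3) := ⟨Nat.prime_three⟩
    haveI : CharP F 3 := charP_of_card_eq_prime hq3
    have h30 : (3 : F) = 0 := by simpa using CharP.cast_eq_zero F 3
    have hnat : ∀ t : F, ∃ m : ℕ, (m : F) = t := fun t => by
      obtain ⟨x, hx⟩ := (ZMod.castHom_bijective F (n := 3) hq3).2 t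
      exact ⟨x.val, by rw [← hx, ZMod.castHom_apply, ZMod.cast_eq_val]⟩
    let S : Sys n (Fin n) F (Matrix.SpecialLinearGroup (Fin n) F) :=
      { x := tv, ι := id,
        φ := { toFun := fun A => A.1, map_one' := rfl, map_mul' := fun _ _ => rfl },
        inj := Function.injective_id, add := raw_tv.add, comm := raw_tv.comm, mul := raw_tv.mul,
        rels := raw_tv.rels hn3, φx := fun h t => by
          show (tv _ _ t : (Matrix.SpecialLinearGroup (Fin n) F)).1 = _
          rw [tv_val h]; rfl }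
    set s1 := W (tv i k) (tv k i) (1 : F)
    set s2 := W (tv j l) (tv l j) (1 : F)
    set s : (Matrix.SpecialLinearGroup (Fin n) F) := s2 * s1
    have A1 : ∀ t : F, s1 * tv i j t * s1⁻¹ = tv k j (-t) := fun t => by
      have := S.W_il (i := i) (j := k) (l := j) hik (Ne.symm hij) h3 (one_ne_zero (α := F)) t
      simpa using this
    have A2 : ∀ t : F, s2 * tv k j t * s2⁻¹ = tv k l (-t) := fun t => by
      have := S.W_li (i := j) (j := l) (l := k) hjl (Ne.symm h3) hkl (one_ne_zero (α := F)) t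
      simpa using this
    have B1 : ∀ t : F, s1 * tv k l t * s1⁻¹ = tv i l t := fun t => by
      have := S.W_jl (i := i) (j := k) (l := l) hik (Ne.symm h4) (Ne.symm hkl) (one_ne_zero (α := F)) t
      simpa using this
    have B2 : ∀ t : F, s2 * tv i l t * s2⁻¹ = tv i j t := fun t => by
      have := S.W_lj (i := j) (j := l) (l := i) hjl hij h4 (one_ne_zero (α := F)) t
      simpa using this
    have e1 : s * tv i j 1 * s⁻¹ = tv k l 1 := by
      rw [show s * tv i j 1 * s⁻¹ = s2 * (s1 * tv i j 1 * s1⁻¹) * s2⁻¹ by simp only [s]; group, A1, A2, neg_neg]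
    have e2 : s * tv k l 1 * s⁻¹ = tv i j 1 := by
      rw [show s * tv k l 1 * s⁻¹ = s2 * (s1 * tv k l 1 * s1⁻¹) * s2⁻¹ by simp only [s]; group, B1, B2]
    obtain ⟨ga, hga⟩ := hπ (tv i j (1 : F))
    obtain ⟨gb, hgb⟩ := hπ (tv k l (1 : F))
    obtain ⟨gs, hgs⟩ := hπ s
    have hk : ⁅ga, gb⁆ ∈ Subgroup.center E := hc (by
      rw [MonoidHom.mem_ker, map_commutatorElement, hga, hgb, commutatorElement_eq_one_iff_commute]
      exact raw_tv.comm hij hkl h3 h4 1 1)
    have hinv : ⁅ga, gb⁆ = ⁅ga, gb⁆⁻¹ := by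
      rw [commutatorElement_inv]
      calc ⁅ga, gb⁆ = gs * ⁅ga, gb⁆ * gs⁻¹ := by rw [Subgroup.mem_center_iff.mp hk gs, mul_inv_cancel_right]
        _ = ⁅gs * ga * gs⁻¹, gs * gb * gs⁻¹⁆ := by simp only [commutatorElement_def]; group
        _ = ⁅gb, ga⁆ := by
          refine comm_congr hc ?_ ?_ <;> rw [map_mul, map_mul, map_inv, hgs, hga, hgb]
          exacts [e1, e2]
    rw [hf ga gb 1 1 hga hgb, eq_inv_iff_mul_eq_one] at hinv
    have hz : ∀ u, f 0 u = 1 := fun u => by
      have := fl 0 0 u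
      rw [add_zero] at this
      exact mul_left_cancel (this.symm.trans (mul_one _).symm)
    have hz' : ∀ t, f t 0 = 1 := fun t => by
      have := fr t 0 0
      rw [add_zero] at this
      exact mul_left_cancel (this.symm.trans (mul_one _).symm)
    have h11 : f 1 1 = 1 := by
      have h := fl (1 + 1) 1 1
      rw [fl 1 1 1, hinv, one_mul, show (1 : F) + 1 + 1 = 0 by linear_combination h30, hz] at h
      exact h.symm
    intro g p t u hg hp
    rw [← commutatorElement_eq_one_iff_commute, hf g p t u hg hp]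
    have h1u : ∀ m : ℕ, f 1 (m : F) = 1 := by
      intro m
      induction m with
      | zero => rw [Nat.cast_zero]; exact hz' 1
      | succ m ih => rw [Nat.cast_succ, fr, ih, h11, one_mul]
    obtain ⟨a, rfl⟩ := hnat t
    induction a generalizing g with
    | zero => rw [Nat.cast_zero]; exact hz u
    | succ a ih =>
      obtain ⟨m, rfl⟩ := hnat u
      obtain ⟨g', hg'⟩ := hπ (tv i j (a : F))
      rw [Nat.cast_succ, fl, ih g' hg', h1u, one_mul]
  · obtain ⟨a, ha, ha2⟩ : ∃ a : F, a ≠ 0 ∧ a * a ≠ 1 := by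
      by_contra hcon
      push Not at hcon
      have h1 := Finset.card_le_card (fun x _ => show x ∈ ({0, 1, -1} : Finset F) by
        simp only [Finset.mem_insert, Finset.mem_singleton]
        by_cases hx : x = 0
        · exact Or.inl hx
        · exact Or.inr (mul_self_eq_one_iff.mp (hcon x hx)) : (Finset.univ : Finset F) ⊆ {0, 1, -1})
      have h2 : ({0, 1, -1} : Finset F).card ≤ 3 := Finset.card_le_three
      rw [Finset.card_univ] at h1
      have := Fintype.one_lt_card (α := F)
      omega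
    obtain ⟨d, hd, di, dj, dk, hdo⟩ := exists_torus hij hik h3 ha (inv_ne_zero ha)
    refine cp_scaled hπ hc hij hkl h3 h4 (dg d hd) ha2 (fun t => ?_) (fun u => ?_)
    · rw [diag_conj d hd hij, di, dj, div_inv_eq_mul]
    · rw [diag_conj d hd hkl, dk, hdo l (Ne.symm h4) (Ne.symm hjl) (Ne.symm hkl), mul_inv_cancel₀ ha, inv_one, div_one,
        one_mul]

set_option maxHeartbeats 1000000 in
include hπ hc in
theorem exists_lift_many (hA : Admissible n (Fintype.card F)) :
    ∃ H : Subgroup E, (∀ g ∈ H, π g = 1 → g = 1) ∧ H.map π = ⊤ := by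
  classical
  have hn : 3 ≤ n := hA.1
  set Y : Fin n → Fin n → F → E := fun i j t => Function.surjInv hπ (tv i j t)
  have πY : ∀ i j t, π (Y i j t) = tv i j t := fun i j t => Function.surjInv_eq hπ _
  set c : Fin n → Fin n → Fin n → F → F → E := fun i k j t u => ⁅Y i k t, Y k j u⁆
  have πc : ∀ {i k j}, i ≠ k → k ≠ j → i ≠ j → ∀ t u, π (c i k j t u) = tv i j (t * u) := fun h1 h2 h3 t u => by
    show π ⁅_, _⁆ = _
    rw [map_commutatorElement, πY, πY, raw_tv.mul h1 h2 h3]
  have cp : ∀ {i j k l}, i ≠ j → k ≠ l → j ≠ k → i ≠ l → CP π i j k l := fun h1 h2 h3 h4 => cp_all hπ hc hA h1 h2 h3 h4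
  have addl : ∀ {i k j}, i ≠ k → k ≠ j → i ≠ j → ∀ a b u, c i k j (a + b) u = c i k j a u * c i k j b u := by
    intro i k j h1 h2 h3 a b u
    show ⁅Y i k (a + b), Y k j u⁆ = _
    have c1 : Commute (Y i k a) (c i k j b u) := cp h1 h3 (Ne.symm h1) h3 _ _ _ _ (πY _ _ _) (πc h1 h2 h3 b u)
    have c2 : Commute (c i k j b u) (c i k j a u) :=
      cp h3 h3 (Ne.symm h3) h3 _ _ _ _ (πc h1 h2 h3 b u) (πc h1 h2 h3 a u)
    rw [comm_congr hc (show π (Y i k (a + b)) = π (Y i k a * Y i k b) by rw [map_mul, πY, πY, πY, raw_tv.add h1]) rfl,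
      show ⁅Y i k a * Y i k b, Y k j u⁆ = Y i k a * c i k j b u * (Y i k a)⁻¹ * c i k j a u by
        simp only [c, commutatorElement_def]; group,
      c1.eq, mul_inv_cancel_right, c2.eq]
  have addr : ∀ {i k j}, i ≠ k → k ≠ j → i ≠ j → ∀ t a b, c i k j t (a + b) = c i k j t a * c i k j t b := by
    intro i k j h1 h2 h3 t a b
    show ⁅Y i k t, Y k j (a + b)⁆ = _
    have c1 : Commute (Y k j a) (c i k j t b) := cp h2 h3 (Ne.symm h3) h2 _ _ _ _ (πY _ _ _) (πc h1 h2 h3 t b)
    rw [comm_congr hc rfl (show π (Y k j (a + b)) = π (Y k j a * Y k j b) by rw [map_mul, πY, πY, πY, raw_tv.add h2]),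
      show ⁅Y i k t, Y k j a * Y k j b⁆ = c i k j t a * (Y k j a * c i k j t b * (Y k j a)⁻¹) by
        simp only [c, commutatorElement_def]; group,
      c1.eq, mul_inv_cancel_right]
  have four : ∀ {i h k j}, i ≠ h → i ≠ k → i ≠ j → h ≠ k → h ≠ j → k ≠ j → ∀ t v u,
      c i k j (t * v) u = c i h j t (v * u) := by
    intro i h k j e1 e2 e3 e4 e5 e6 t v u
    set a := Y i h t
    set b := Y h k v
    set d := Y k j u
    set C := ⁅a, b⁆ with hC
    set D := ⁅b, d⁆ with hD
    have πC : π C = tv i k (t * v) := by rw [hC, map_commutatorElement, πY, πY, raw_tv.mul e1 e4 e2]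
    have πD : π D = tv h j (v * u) := by rw [hD, map_commutatorElement, πY, πY, raw_tv.mul e4 e6 e5]
    rw [show c i k j (t * v) u = ⁅C, d⁆ from comm_congr hc ((πY _ _ _).trans πC.symm) rfl,
      show c i h j t (v * u) = ⁅a, D⁆ from comm_congr hc rfl ((πY _ _ _).trans πD.symm)]
    have had : Commute a d := cp e1 e6 e4 e3 _ _ _ _ (πY _ _ _) (πY _ _ _)
    have hCD : Commute C D := cp e2 e5 (Ne.symm e4) e3 _ _ _ _ πC πD
    have πaD : π ⁅a, D⁆ = tv i j (t * (v * u)) := by rw [map_commutatorElement, πY, πD, raw_tv.mul e1 e5 e3]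
    have hDaD : Commute D ⁅a, D⁆ := cp e5 e3 (Ne.symm e3) e5 _ _ _ _ πD πaD
    have h1 : d * C * d⁻¹ = ⁅a, D⁻¹⁆ * C := by
      rw [hC, show d * ⁅a, b⁆ * d⁻¹ = ⁅d * a * d⁻¹, d * b * d⁻¹⁆ by simp only [commutatorElement_def]; group,
        had.symm.eq, mul_inv_cancel_right, show d * b * d⁻¹ = D⁻¹ * b by rw [hD]; simp only [commutatorElement_def]; group,
        show ⁅a, D⁻¹ * b⁆ = ⁅a, D⁻¹⁆ * (D⁻¹ * ⁅a, b⁆ * D) by simp only [commutatorElement_def]; group, ← hC,
        mul_assoc D⁻¹, hCD.eq, inv_mul_cancel_left]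
    have h2 : ⁅a, D⁻¹⁆ = ⁅a, D⁆⁻¹ := by
      rw [show ⁅a, D⁻¹⁆ = D⁻¹ * ⁅a, D⁆⁻¹ * D by simp only [commutatorElement_def]; group, mul_assoc,
        ← hDaD.inv_right.eq, inv_mul_cancel_left]
    rw [commutatorElement_def C d, show C * d * C⁻¹ * d⁻¹ = C * (d * C * d⁻¹)⁻¹ by group, h1, h2]
    group
  have bal : ∀ {i k j}, i ≠ k → k ≠ j → i ≠ j → ∀ lam t u, c i k j (lam * t) u = c i k j t (lam * u) := by
    intro i k j h1 h2 h3 lam t u
    by_cases hfree : ∃ h, h ≠ i ∧ h ≠ k ∧ h ≠ j
    · obtain ⟨h, a1, a2, a3⟩ := hfree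
      have e := four (Ne.symm a1) h1 h3 a2 a3 h2 t 1 (lam * u)
      rw [mul_one, one_mul] at e
      rw [mul_comm lam t, four (Ne.symm a1) h1 h3 a2 a3 h2 t lam u, ← e]
    push Not at hfree
    have hcard := Finset.card_le_card (fun h _ => show h ∈ ({i, k, j} : Finset (Fin n)) by
      simp only [Finset.mem_insert, Finset.mem_singleton]
      by_cases a1 : h = i; · exact Or.inl a1
      by_cases a2 : h = k; · exact Or.inr (Or.inl a2)
      exact Or.inr (Or.inr (hfree h a1 a2)) : (Finset.univ : Finset (Fin n)) ⊆ {i, k, j})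
    have h3c : ({i, k, j} : Finset (Fin n)).card ≤ 3 := Finset.card_le_three
    simp only [Finset.card_univ, Fintype.card_fin] at hcard
    obtain ⟨hq2, hq4⟩ := hA.2.1 (by omega)
    -- the multipliers form a subfield containing the cubes
    set R : Set F := {lam | ∀ t u, c i k j (lam * t) u = c i k j t (lam * u)} with hR
    have z1 : ∀ u, c i k j 0 u = 1 := fun u => by
      have := addl h1 h2 h3 0 0 u
      rw [add_zero] at this
      exact mul_left_cancel (this.symm.trans (mul_one _).symm)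
    have z2 : ∀ t, c i k j t 0 = 1 := fun t => by
      have := addr h1 h2 h3 t 0 0
      rw [add_zero] at this
      exact mul_left_cancel (this.symm.trans (mul_one _).symm)
    have r0 : (0 : F) ∈ R := fun t u => by rw [zero_mul, zero_mul, z1, z2]
    have r1 : (1 : F) ∈ R := fun t u => by rw [one_mul, one_mul]
    have radd : ∀ {a b}, a ∈ R → b ∈ R → a + b ∈ R := fun {a b} ha hb t u => by
      rw [add_mul, add_mul, addl h1 h2 h3, addr h1 h2 h3, ha t u, hb t u]
    have rmul : ∀ {a b}, a ∈ R → b ∈ R → a * b ∈ R := fun {a b} ha hb t u => by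
      rw [mul_assoc, ha (b * t) u, hb t (a * u)]
      congr 1; ring
    have rpow : ∀ {a}, a ∈ R → ∀ m : ℕ, a ^ m ∈ R := fun {a} ha m => by
      induction m with
      | zero => rw [pow_zero]; exact r1
      | succ m ih => rw [pow_succ]; exact rmul ih ha
    have rcube : ∀ b : F, b ≠ 0 → b ^ 3 ∈ R := by
      intro b hb t u
      obtain ⟨d, hd, di, dj, dk, -⟩ := exists_torus h3 h1 (Ne.symm h2) hb hb
      obtain ⟨g, hg⟩ := hπ (dg d hd)
      have cj : ∀ t, (dg d hd) * tv i j t * (dg d hd)⁻¹ = tv i j t :=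
        fun t => by rw [diag_conj d hd h3, di, dj, div_self hb, one_mul]
      set X := c i k j t (b ^ 3 * u)
      have πX : π X = tv i j (t * (b ^ 3 * u)) := πc h1 h2 h3 _ _
      set θ := ⁅g, X⁆ with hθ
      have θc : ∀ x, Commute x θ := fun x => Subgroup.mem_center_iff.mp (hc (by
        rw [MonoidHom.mem_ker, hθ, map_commutatorElement, hg, πX, commutatorElement_def, cj, mul_inv_cancel])) x
      have p1 : ∀ m : ℕ, ⁅g ^ m, X⁆ = θ ^ m := by
        intro m
        induction m with
        | zero => simp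
        | succ m ih =>
          rw [pow_succ', show ⁅g * g ^ m, X⁆ = g * ⁅g ^ m, X⁆ * g⁻¹ * θ by
            simp only [hθ, commutatorElement_def]; group, ih, ((θc g).pow_right m).eq, mul_inv_cancel_right, pow_succ]
      have p2 : ∀ m : ℕ, ⁅g, X ^ m⁆ = θ ^ m := by
        intro m
        induction m with
        | zero => simp
        | succ m ih =>
          rw [pow_succ', show ⁅g, X * X ^ m⁆ = θ * (X * ⁅g, X ^ m⁆ * X⁻¹) by
            simp only [hθ, commutatorElement_def]; group, ih, ((θc X).pow_right m).eq, mul_inv_cancel_right, pow_succ']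
      have q1 : θ ^ (Fintype.card F - 1) = 1 := by
        rw [← p1, comm_congr hc (show π (g ^ (Fintype.card F - 1)) = π 1 by
          rw [map_pow, hg, map_one]
          apply Subtype.ext
          show (dg d hd ^ (Fintype.card F - 1)).1 = 1
          rw [Matrix.SpecialLinearGroup.coe_pow]
          show Matrix.diagonal d ^ (Fintype.card F - 1) = 1
          rw [Matrix.diagonal_pow, ← Matrix.diagonal_one]
          congr 1
          funext m
          refine FiniteField.pow_card_sub_one_eq_one (d m) fun e => ?_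
          have hd' := hd
          rw [Matrix.det_diagonal, Finset.prod_eq_zero (Finset.mem_univ m) e] at hd'
          exact zero_ne_one hd') rfl, commutatorElement_one_left]
      have q2 : θ ^ Fintype.card F = 1 := by
        have hX : ∀ m : ℕ, X ^ m = c i k j ((m : F) * t) (b ^ 3 * u) := by
          intro m
          induction m with
          | zero => rw [pow_zero, Nat.cast_zero, zero_mul, z1]
          | succ m ih => rw [pow_succ, ih, Nat.cast_succ, add_mul, one_mul, addl h1 h2 h3]
        rw [← p2, hX, Nat.cast_card_eq_zero, zero_mul, z1, commutatorElement_one_right]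
      have θ1 : θ = 1 := by
        have := q2
        rw [show Fintype.card F = Fintype.card F - 1 + 1 by have := Fintype.one_lt_card (α := F); omega,
          pow_succ, q1, one_mul] at this
        exact this
      have gX : g * X * g⁻¹ = X := by
        rw [hθ, commutatorElement_eq_one_iff_commute] at θ1
        rw [θ1.eq, mul_inv_cancel_right]
      rw [← gX]
      show c i k j (b ^ 3 * t) u = g * ⁅Y i k t, Y k j (b ^ 3 * u)⁆ * g⁻¹
      rw [show g * ⁅Y i k t, Y k j (b ^ 3 * u)⁆ * g⁻¹ = ⁅g * Y i k t * g⁻¹, g * Y k j (b ^ 3 * u) * g⁻¹⁆ by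
        simp only [commutatorElement_def]; group]
      refine comm_congr hc ?_ ?_ <;> rw [map_mul, map_mul, map_inv, hg, πY, πY]
      · rw [diag_conj d hd h1, di, dk]; congr 1; field_simp
      · rw [diag_conj d hd h2, dk, dj]; congr 1; field_simp
    suffices hall : ∀ a : F, a ∈ R from hall lam t u
    by_contra hcon
    push Not at hcon
    obtain ⟨a, ha⟩ := hcon
    set Rf := Finset.univ.filter (· ∈ R) with hRf
    have hinj : Set.InjOn (fun p : F × F => p.1 + a * p.2) ↑(Rf ×ˢ Rf) := by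
      rintro ⟨r, s⟩ hrs ⟨r', s'⟩ hrs' e
      simp only [hRf, Finset.coe_product, Set.mem_prod, Finset.mem_coe, Finset.mem_filter, Finset.mem_univ, true_and] at hrs hrs'
      simp only at e
      have neg : ∀ {x}, x ∈ R → -x ∈ R := fun {x} hx => by
        have hm : ∀ m : ℕ, (m : F) ∈ R := fun m => by
          induction m with
          | zero => rw [Nat.cast_zero]; exact r0
          | succ m ih => rw [Nat.cast_succ]; exact radd ih r1
        have := rmul (hm (Fintype.card F - 1)) hx
        rwa [Nat.cast_sub Fintype.card_pos, Nat.cast_card_eq_zero, Nat.cast_one, zero_sub, neg_one_mul] at this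
      by_cases hs : s = s'
      · subst hs; simpa using e
      · exfalso
        apply ha
        have hd : s - s' ≠ 0 := sub_ne_zero.mpr hs
        have e' : a = (r' + -r) * (s + -s') ^ (Fintype.card F - 2) := by
          have h1' : (s + -s') ^ (Fintype.card F - 2) * (s + -s') = 1 := by
            rw [← pow_succ, show Fintype.card F - 2 + 1 = Fintype.card F - 1 by
              have := Fintype.one_lt_card (α := F); omega, ← sub_eq_add_neg]
            exact FiniteField.pow_card_sub_one_eq_one _ hd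
          linear_combination (-a) * h1' + (s + -s') ^ (Fintype.card F - 2) * e
        rw [e']
        exact rmul (radd hrs'.1 (neg hrs.1)) (rpow (radd hrs.2 (neg hrs'.2)) _)
    have hsq : Rf.card * Rf.card ≤ Fintype.card F := by
      rw [← Finset.card_product, ← Finset.card_univ]
      exact Finset.card_le_card_of_injOn _ (fun _ _ => Finset.mem_univ _) hinj
    -- the nonzero cubes lie in `R`
    set P := Finset.image (fun b : Fˣ => (b : F) ^ 3) Finset.univ with hP
    have hPle : P ⊆ Rf.erase 0 := by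
      intro x hx
      obtain ⟨b, -, rfl⟩ := Finset.mem_image.mp hx
      simp only [hRf, Finset.mem_erase, Finset.mem_filter, Finset.mem_univ, true_and]
      exact ⟨pow_ne_zero _ b.ne_zero, rcube _ b.ne_zero⟩
    have hPcard : Fintype.card Fˣ ≤ 3 * P.card := by
      refine Finset.card_le_mul_card_image (f := fun b : Fˣ => (b : F) ^ 3) Finset.univ 3 fun x hx => ?_
      obtain ⟨b, -, rfl⟩ := Finset.mem_image.mp hx
      refine le_trans (Finset.card_le_card_of_injOn (fun y : Fˣ => (y : F)) (fun y hy => ?_)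
        (fun y _ z _ e => Units.ext e)) ((Multiset.toFinset_card_le _).trans (Polynomial.card_nthRoots 3 ((b : F) ^ 3)))
      simp only [Finset.mem_coe, Finset.mem_filter, Finset.mem_univ, true_and] at hy
      simp [Polynomial.mem_nthRoots, hy]
    have h0 : (0 : F) ∈ Rf := by simp [hRf, r0]
    have := Finset.card_le_card hPle
    rw [Finset.card_erase_of_mem h0] at this
    rw [Fintype.card_units] at hPcard
    have hq := Fintype.one_lt_card (α := F)
    have hR2 : Rf.card ≤ 2 := by
      by_contra hlt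
      have : 3 * Rf.card ≤ Rf.card * Rf.card := Nat.mul_le_mul_right _ (by omega)
      omega
    have : Fintype.card F ≤ 4 := by omega
    have h3F : Fintype.card F = 3 := by omega
    have : Rf.card = 2 := by
      have : 1 < Rf.card := Finset.one_lt_card.mpr ⟨0, h0, 1, by simp [hRf, r1], zero_ne_one⟩
      omega
    rw [this] at hsq
    omega
  have indep : ∀ {i k h j}, i ≠ k → k ≠ j → i ≠ j → i ≠ h → h ≠ j → ∀ v, c i k j v 1 = c i h j v 1 := by
    intro i k h j h1 h2 h3 h4 h5 v
    by_cases e : h = k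
    · rw [e]
    · have := four h4 h1 h3 e h5 h2 v 1 1
      simpa using this
  choose th hth1 hth2 using fun p : Fin n × Fin n => exists_third hn p.1 p.2
  set X : Fin n → Fin n → F → E := fun i j t => c i (th (i, j)) j t 1
  have πX : ∀ {i j}, i ≠ j → ∀ t, π (X i j t) = tv i j t := fun {i j} h t => by
    rw [πc (Ne.symm (hth1 (i, j))) (hth2 (i, j)) h, mul_one]
  have R : Raw X := by
    refine ⟨fun {i j} h a b => addl (Ne.symm (hth1 (i, j))) (hth2 (i, j)) h a b 1,
      fun {i j k l} h1 h2 h3 h4 t u => cp h1 h2 h3 h4 _ _ _ _ (πX h1 t) (πX h2 u), fun {i j k} h1 h2 h3 t u => ?_⟩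
    rw [show ⁅X i j t, X j k u⁆ = c i j k t u from
      comm_congr hc ((πX h1 t).trans (πY _ _ _).symm) ((πX h2 u).trans (πY _ _ _).symm)]
    rw [← mul_one u, ← bal h1 h2 h3 u t 1, mul_comm u t, mul_one]
    exact indep h1 h2 h3 (Ne.symm (hth1 (i, k))) (hth2 (i, k)) _
  refine ⟨Subgroup.closure {g | ∃ i j t, i ≠ j ∧ X i j t = g}, fun g hg h1 => ?_, ?_⟩
  · refine injective_of_raw hn R π (fun {i j} h t => ?_) hg h1
    rw [πX h, tv, dif_pos h]
  · rw [eq_top_iff, ← closure_transvection_eq_top (K := F) (n := n) (by omega), Subgroup.closure_le]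
    rintro _ ⟨i, j, h, t, rfl⟩
    exact ⟨X i j t, Subgroup.subset_closure ⟨i, j, t, h, rfl⟩, by rw [πX h, tv, dif_pos h]⟩

end Extension

theorem splitG_SL {K : Type u} [Field K] [Fintype K] {n : ℕ} (hA : Admissible n (Fintype.card K)) :
    SplitG (Matrix.SpecialLinearGroup (Fin n) K) :=
  splitG_of_subgroup fun _E _ _π hπ hc => exists_lift_many hπ hc hA

end CfsgLib.StSL
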